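import Cfsg.Agent.H614.Complete
import Mathlib.RingTheory.Derivation.Basic

/-!
# Schur functions in a commutative `ℂ`-algebra with given power sums

`SS P k β = ∑_{ν ⊢ k} z_ν⁻¹ F_β(ν) P_ν`, for a sequence `P` of elements of a commutative algebra.
Recursion, Jacobi-Trudi, lowering by derivations, raising, expansion of the power sums.
-/

set_option autoImplicit false

namespace Cfsg.Agent.H614.GLn

open Finset Cfsg.Agent.H614

variable {m : ℕ}

section ZV

variable {A : Type*} [AddCommGroup A] [Module ℂ A]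

/-- The average over the partitions of `n` of a function with values in a vector space. -/
noncomputable def ZV (n : ℕ) (f : Multiset ℕ → A) : A := ∑ ν : n.Partition, ((zz ν.parts : ℂ)⁻¹) • f ν.parts

theorem ZV_congr {n : ℕ} {f g : Multiset ℕ → A}
    (h : ∀ s : Multiset ℕ, s.sum = n → (∀ i ∈ s, 0 < i) → f s = g s) : ZV n f = ZV n g := by
  unfold ZV
  refine Finset.sum_congr rfl fun ν _ => ?_
  rw [h ν.parts ν.parts_sum (fun i hi => ν.parts_pos hi)]

theorem ZV_smul (n : ℕ) (c : ℂ) (f : Multiset ℕ → A) : ZV n (fun s => c • f s) = c • ZV n f := by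
  unfold ZV
  rw [Finset.smul_sum]
  exact Finset.sum_congr rfl fun ν _ => smul_comm _ _ _

theorem ZV_finsum {ι : Type*} (n : ℕ) (t : Finset ι) (f : ι → Multiset ℕ → A) :
    ZV n (fun s => ∑ i ∈ t, f i s) = ∑ i ∈ t, ZV n (f i) := by
  unfold ZV
  rw [Finset.sum_comm]
  exact Finset.sum_congr rfl fun ν _ => by rw [Finset.smul_sum]

theorem ZV_zero (n : ℕ) : ZV n (fun _ => (0 : A)) = 0 := by
  unfold ZV; simp

theorem ZV_map {A' : Type*} [AddCommGroup A'] [Module ℂ A'] (L : A →ₗ[ℂ] A') (n : ℕ) (f : Multiset ℕ → A) :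
    L (ZV n f) = ZV n (fun s => L (f s)) := by
  unfold ZV
  rw [map_sum]
  exact Finset.sum_congr rfl fun ν _ => by rw [map_smul]

theorem ZV_zero_eq (f : Multiset ℕ → A) : ZV 0 f = f 0 := by
  unfold ZV
  have hu : (univ : Finset (Nat.Partition 0)) = {default} := by
    ext x; simp [Subsingleton.elim x default]
  have hp : (default : Nat.Partition 0).parts = 0 := by
    have h := (default : Nat.Partition 0).parts_sum
    by_contra hne
    obtain ⟨a, ha⟩ := Multiset.exists_mem_of_ne_zero hne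
    have h1 := (default : Nat.Partition 0).parts_pos ha
    have h2 := Multiset.le_sum_of_mem ha
    omega
  rw [hu, Finset.sum_singleton, hp]
  simp [zz]

/-- Marking a part equal to `r`. -/
theorem ZV_mark {n r : ℕ} (hr : 0 < r) (hrn : r ≤ n) (f : Multiset ℕ → A) :
    ZV n (fun s => ((r * s.count r : ℕ) : ℂ) • f s) = ZV (n - r) (fun s => f (r ::ₘ s)) := by
  unfold ZV
  rw [← Finset.sum_filter_of_ne (p := fun ν : n.Partition => r ∈ ν.parts)]
  swap
  · intro ν _ h
    by_contra hn
    beta_reduce at h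
    rw [Multiset.count_eq_zero.mpr hn] at h
    simp at h
  refine Finset.sum_bij' (i := fun ν hν => (⟨ν.parts.erase r, ?_, ?_⟩ : (n - r).Partition))
    (j := fun ν _ => (⟨r ::ₘ ν.parts, ?_, ?_⟩ : n.Partition)) ?_ ?_ ?_ ?_ ?_
  · intro i hi
    exact ν.parts_pos (Multiset.mem_of_mem_erase hi)
  · have h1 : r ∈ ν.parts := (Finset.mem_filter.mp hν).2
    have h2 := Multiset.cons_erase h1
    have h3 := ν.parts_sum
    rw [← h2, Multiset.sum_cons] at h3
    omega
  · intro i hi
    rcases Multiset.mem_cons.mp hi with rfl | h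
    · exact hr
    · exact ν.parts_pos h
  · rw [Multiset.sum_cons, ν.parts_sum]; omega
  · intro ν _; simp
  · intro ν _; simp
  · intro ν hν
    have h1 : r ∈ ν.parts := (Finset.mem_filter.mp hν).2
    apply Nat.Partition.ext
    exact Multiset.cons_erase h1
  · intro ν _
    apply Nat.Partition.ext
    simp
  · intro ν hν
    have h1 : r ∈ ν.parts := (Finset.mem_filter.mp hν).2
    obtain ⟨s, hs⟩ : ∃ s, s = ν.parts.erase r := ⟨_, rfl⟩
    have h2 : ν.parts = r ::ₘ s := by rw [hs]; exact (Multiset.cons_erase h1).symm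
    simp only
    rw [← hs, h2, Multiset.count_cons_self, zz_cons, smul_smul]
    congr 1
    have h3 : (zz s : ℂ) ≠ 0 := by
      have hpos : ∀ i ∈ s, 0 < i := by
        intro i hi
        have hi' : i ∈ ν.parts := by rw [h2]; exact Multiset.mem_cons_of_mem hi
        exact ν.parts_pos hi'
      have : 0 < zz s := zz_pos hpos
      exact_mod_cast this.ne'
    have h4 : (r : ℂ) ≠ 0 := by exact_mod_cast hr.ne'
    have h5 : ((s.count r : ℂ) + 1) ≠ 0 := Nat.cast_add_one_ne_zero _
    push_cast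
    field_simp

theorem ZV_rec (n : ℕ) (f : Multiset ℕ → A) :
    (n : ℂ) • ZV n f = ∑ r ∈ Finset.Icc 1 n, ZV (n - r) (fun s => f (r ::ₘ s)) := by
  rw [← ZV_smul, ZV_congr (g := fun s => ∑ r ∈ Finset.Icc 1 n, ((r * s.count r : ℕ) : ℂ) • f s), ZV_finsum]
  · refine Finset.sum_congr rfl fun r hr => ?_
    rw [Finset.mem_Icc] at hr
    exact ZV_mark hr.1 hr.2 f
  · intro s hs hpos
    have h1 := sum_eq_sum_count hs hpos (fun _ => True)
    simp only [Multiset.filter_true, Finset.filter_true] at h1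
    rw [← Finset.sum_smul, ← Nat.cast_sum, ← h1, hs]

end ZV

section SS

variable {A : Type*} [CommRing A] [Algebra ℂ A] (P : ℕ → A)

/-- the Schur function -/
noncomputable def SS (k : ℕ) (β : Fin m → ℕ) : A := ZV k (fun s => (FM s β : ℂ) • (s.map P).prod)

/-- the complete symmetric function -/
noncomputable def hh (k : ℕ) : A := ZV k (fun s => (s.map P).prod)

theorem hh_zero : hh P 0 = 1 := by rw [hh, ZV_zero_eq]; simp

theorem hh_rec (k : ℕ) : (k : ℂ) • hh P k = ∑ r ∈ Finset.Icc 1 k, P r * hh P (k - r) := by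
  rw [hh, ZV_rec]
  refine Finset.sum_congr rfl fun r _ => ?_
  have h := ZV_map (LinearMap.mulLeft ℂ (P r)) (k - r) (fun s => (s.map P).prod)
  rw [LinearMap.mulLeft_apply] at h
  rw [hh, h]
  exact ZV_congr fun s _ _ => by rw [Multiset.map_cons, Multiset.prod_cons]; rfl

theorem SS_alt (k : ℕ) : Alt (SS (m := m) P k) := by
  intro σ β
  unfold SS ZV
  rw [Finset.smul_sum]
  refine Finset.sum_congr rfl fun ν _ => ?_
  beta_reduce
  rw [FM_alt ν.parts σ β, smul_eq_mul, ← Int.cast_smul_eq_zsmul ℂ (sg σ)]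
  push_cast
  rw [mul_smul, smul_comm]

theorem two_torsion_alg {A : Type*} [AddCommGroup A] [Module ℂ A] (w : A) (h : w + w = 0) : w = 0 := by
  have h1 : (2 : ℂ) • w = 0 := by rw [two_smul]; exact h
  exact (smul_eq_zero.1 h1).resolve_left two_ne_zero

theorem SS_rec (k : ℕ) (β : Fin m → ℕ) : (k : ℂ) • SS P k β =
    ∑ r ∈ Finset.Icc 1 k, P r * ∑ j, (if r ≤ β j then SS P (k - r) (dn β j r) else 0) := by
  rw [SS, ZV_rec]
  refine Finset.sum_congr rfl fun r _ => ?_
  have h : ∀ j, P r * (if r ≤ β j then SS P (k - r) (dn β j r) else 0) =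
      ZV (k - r) (fun s => (if r ≤ β j then (FM s (dn β j r) : ℂ) else 0) • (P r * (s.map P).prod)) := by
    intro j
    by_cases hj : r ≤ β j
    · have h1 := ZV_map (LinearMap.mulLeft ℂ (P r)) (k - r) (fun s => (FM s (dn β j r) : ℂ) • (s.map P).prod)
      rw [LinearMap.mulLeft_apply] at h1
      rw [if_pos hj, SS, h1]
      refine ZV_congr fun s _ _ => ?_
      rw [if_pos hj, map_smul]; rfl
    · rw [if_neg hj, mul_zero]
      simp only [if_neg hj, zero_smul]
      exact (ZV_zero _).symm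
  rw [Finset.mul_sum, Finset.sum_congr rfl fun j _ => h j, ← ZV_finsum]
  refine ZV_congr fun s _ _ => ?_
  rw [Multiset.map_cons, Multiset.prod_cons, FM_cons, ← Finset.sum_smul]
  congr 1
  push_cast
  rfl

theorem SS_eq_zero_of_sum {k : ℕ} {β : Fin m → ℕ} (h : ∑ i, β i ≠ k + ∑ i : Fin m, (i : ℕ)) :
    SS P k β = 0 := by
  rw [SS, ZV_congr (g := fun _ => 0), ZV_zero]
  intro s hs _
  rw [FM_eq_zero_of_sum s (by rw [hs]; exact h)]
  simp

theorem SS_zero_eq (β : Fin m → ℕ) : SS P 0 β = ((vac β : ℤ) : ℂ) • (1 : A) := by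
  rw [SS, ZV_zero_eq, FM_zero]; simp

/-- one factor of the Jacobi-Trudi determinant -/
noncomputable def jt (a b : ℕ) : A := if b ≤ a then hh P (a - b) else 0

/-- the Jacobi-Trudi determinant -/
noncomputable def JT (β : Fin m → ℕ) : A := ∑ σ : Equiv.Perm (Fin m), sg σ • ∏ i, jt P (β i) (σ i : ℕ)

theorem jt_rec {a b : ℕ} (h : b ≤ a) {N : ℕ} (hN : a - b ≤ N) : ((a - b : ℕ) : ℂ) • jt P a b =
    ∑ r ∈ Finset.Icc 1 N, P r * (if r ≤ a then jt P (a - r) b else 0) := by
  rw [jt, if_pos h, hh_rec]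
  rw [← Finset.sum_subset (Finset.Icc_subset_Icc_right hN)]
  · refine Finset.sum_congr rfl fun r hr => ?_
    rw [Finset.mem_Icc] at hr
    rw [if_pos (by omega), jt, if_pos (by omega)]
    congr 2
    omega
  · intro r hr hr'
    rw [Finset.mem_Icc] at hr hr'
    split_ifs with h1
    · rw [jt, if_neg (by omega), mul_zero]
    · rw [mul_zero]

theorem JT_rec {k : ℕ} {β : Fin m → ℕ} (hβ : ∑ i, β i = k + ∑ i : Fin m, (i : ℕ)) : (k : ℂ) • JT P β =
    ∑ r ∈ Finset.Icc 1 k, P r * ∑ j, (if r ≤ β j then JT P (dn β j r) else 0) := by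
  classical
  have key : ∀ σ : Equiv.Perm (Fin m), (k : ℂ) • ∏ i, jt P (β i) (σ i : ℕ) =
      ∑ r ∈ Finset.Icc 1 k, P r * ∑ j, (if r ≤ β j then ∏ i, jt P (dn β j r i) (σ i : ℕ) else 0) := by
    intro σ
    by_cases hσ : ∀ i, (σ i : ℕ) ≤ β i
    · have h1 : (k : ℂ) = ∑ i, ((β i - σ i : ℕ) : ℂ) := by
        rw [← Nat.cast_sum]
        congr 1
        have h2 : ∑ i, (β i - (σ i : ℕ)) + ∑ i, ((σ i : Fin m) : ℕ) = ∑ i, β i := by
          rw [← Finset.sum_add_distrib]
          exact Finset.sum_congr rfl fun i _ => Nat.sub_add_cancel (hσ i)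
        rw [Equiv.sum_comp σ (fun i : Fin m => (i : ℕ))] at h2
        omega
      have hle : ∀ i, β i - (σ i : ℕ) ≤ k := by
        intro i
        have h2 : β i - (σ i : ℕ) ≤ ∑ i, (β i - (σ i : ℕ)) :=
          Finset.single_le_sum (f := fun i => β i - (σ i : ℕ)) (fun _ _ => Nat.zero_le _) (Finset.mem_univ i)
        have h3 : ((k : ℕ) : ℂ) = ((∑ i, (β i - (σ i : ℕ)) : ℕ) : ℂ) := by rw [h1]; push_cast; rfl
        have h4 : k = ∑ i, (β i - (σ i : ℕ)) := by exact_mod_cast h3
        omega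
      rw [h1, Finset.sum_smul]
      have h2 : ∀ j, ((β j - σ j : ℕ) : ℂ) • ∏ i, jt P (β i) (σ i : ℕ) =
          ∑ r ∈ Finset.Icc 1 k, P r * (if r ≤ β j then ∏ i, jt P (dn β j r i) (σ i : ℕ) else 0) := by
        intro j
        rw [← Finset.mul_prod_erase _ _ (Finset.mem_univ j), ← smul_mul_assoc, jt_rec P (hσ j) (hle j),
          Finset.sum_mul]
        refine Finset.sum_congr rfl fun r _ => ?_
        by_cases hr : r ≤ β j
        · rw [if_pos hr, if_pos hr, ← Finset.mul_prod_erase _ _ (Finset.mem_univ j), dn_self, mul_assoc]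
          congr 2
          refine Finset.prod_congr rfl fun i hi => ?_
          rw [dn_ne _ _ (Finset.ne_of_mem_erase hi)]
        · rw [if_neg hr, if_neg hr]; simp
      rw [Finset.sum_congr rfl fun j _ => h2 j, Finset.sum_comm]
      exact Finset.sum_congr rfl fun r _ => by rw [Finset.mul_sum]
    · push Not at hσ
      obtain ⟨i₀, hi₀⟩ := hσ
      have h1 : ∏ i, jt P (β i) (σ i : ℕ) = 0 :=
        Finset.prod_eq_zero (Finset.mem_univ i₀) (by rw [jt, if_neg (by omega)])
      rw [h1, smul_zero]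
      symm
      refine Finset.sum_eq_zero fun r _ => ?_
      rw [Finset.sum_eq_zero, mul_zero]
      intro j _
      split_ifs with hr
      · refine Finset.prod_eq_zero (Finset.mem_univ i₀) ?_
        rw [jt, if_neg]
        by_cases hj : i₀ = j
        · subst hj; rw [dn_self]; omega
        · rw [dn_ne _ _ hj]; omega
      · rfl
  unfold JT
  rw [Finset.smul_sum]
  have h1 : ∀ σ : Equiv.Perm (Fin m), (k : ℂ) • sg σ • ∏ i, jt P (β i) (σ i : ℕ) =
      ∑ r ∈ Finset.Icc 1 k, sg σ • (P r * ∑ j, (if r ≤ β j then ∏ i, jt P (dn β j r i) (σ i : ℕ) else 0)) := by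
    intro σ
    rw [smul_comm, key, Finset.smul_sum]
  rw [Finset.sum_congr rfl fun σ _ => h1 σ, Finset.sum_comm]
  refine Finset.sum_congr rfl fun r _ => ?_
  rw [Finset.mul_sum]
  have h2 : ∀ σ : Equiv.Perm (Fin m), sg σ • (P r * ∑ j, (if r ≤ β j then
      ∏ i, jt P (dn β j r i) (σ i : ℕ) else 0)) =
      ∑ j, sg σ • (P r * (if r ≤ β j then ∏ i, jt P (dn β j r i) (σ i : ℕ) else 0)) := by
    intro σ; rw [Finset.mul_sum, Finset.smul_sum]
  rw [Finset.sum_congr rfl fun σ _ => h2 σ, Finset.sum_comm]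
  refine Finset.sum_congr rfl fun j _ => ?_
  by_cases hr : r ≤ β j
  · simp only [if_pos hr]
    rw [Finset.mul_sum]
    exact Finset.sum_congr rfl fun σ _ => by rw [mul_smul_comm]
  · simp only [if_neg hr, mul_zero, smul_zero, Finset.sum_const_zero]

theorem JT_zero {β : Fin m → ℕ} (hβ : ∑ i, β i = ∑ i : Fin m, (i : ℕ)) : JT P β = ((vac β : ℤ) : ℂ) • (1 : A) := by
  unfold JT vac
  push_cast
  rw [Finset.sum_smul]
  refine Finset.sum_congr rfl fun σ _ => ?_
  by_cases h : β = fun i => ((σ i : Fin m) : ℕ)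
  · rw [if_pos h]
    have h1 : ∏ i, jt P (β i) (σ i : ℕ) = 1 := by
      refine Finset.prod_eq_one fun i _ => ?_
      rw [h, jt, if_pos le_rfl, Nat.sub_self, hh_zero]
    rw [h1]
    push_cast
    rw [← Int.cast_smul_eq_zsmul ℂ]
  · rw [if_neg h, zero_smul]
    have h1 : ∏ i, jt P (β i) (σ i : ℕ) = 0 := by
      by_contra hne
      apply h
      have h2 : ∀ i, (σ i : ℕ) ≤ β i := by
        intro i
        by_contra hi
        exact hne (Finset.prod_eq_zero (Finset.mem_univ i) (by rw [jt, if_neg hi]))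
      have h3 : ∑ i, ((σ i : Fin m) : ℕ) = ∑ i, β i := by
        rw [Equiv.sum_comp σ (fun i : Fin m => (i : ℕ)), hβ]
      funext i
      exact ((Finset.sum_eq_sum_iff_of_le fun i _ => h2 i).1 h3 i (Finset.mem_univ i)).symm
    rw [h1, smul_zero]

/-- **Jacobi-Trudi.** -/
theorem SS_eq_JT (k : ℕ) : ∀ {β : Fin m → ℕ}, ∑ i, β i = k + ∑ i : Fin m, (i : ℕ) → SS P k β = JT P β := by
  induction k using Nat.strong_induction_on with
  | _ k ih =>
    intro β hβ
    rcases Nat.eq_zero_or_pos k with rfl | hk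
    · rw [SS_zero_eq, JT_zero P (by simpa using hβ)]
    · have h1 := SS_rec P k β
      have h2 := JT_rec P hβ
      have h3 : (k : ℂ) • SS P k β = (k : ℂ) • JT P β := by
        rw [h1, h2]
        refine Finset.sum_congr rfl fun r hr => ?_
        rw [Finset.mem_Icc] at hr
        congr 1
        refine Finset.sum_congr rfl fun j _ => ?_
        split_ifs with hj
        · apply ih (k - r) (by omega)
          have := sum_dn β j hj
          omega
        · rfl
      have hk' : (k : ℂ) ≠ 0 := by exact_mod_cast hk.ne'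
      exact smul_right_injective A hk' h3

/-! ### Lowering -/

theorem D_prod {D : Derivation ℂ A A} {r : ℕ} (hD : ∀ s, 0 < s → D (P s) = if s = r then (r : A) else 0)
    (s : Multiset ℕ) (hpos : ∀ i ∈ s, 0 < i) :
    D (s.map P).prod = ((r * s.count r : ℕ) : A) * ((s.erase r).map P).prod := by
  induction s using Multiset.induction_on with
  | empty => simp
  | cons a s ih =>
    rw [Multiset.map_cons, Multiset.prod_cons, Derivation.leibniz, ih fun i hi => hpos i (Multiset.mem_cons_of_mem hi),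
      hD a (hpos a (Multiset.mem_cons_self a s)), smul_eq_mul, smul_eq_mul]
    by_cases h : a = r
    · subst h
      rw [if_pos rfl, Multiset.count_cons_self, Multiset.erase_cons_head]
      by_cases hs : a ∈ s
      · have h1 : P a * ((s.erase a).map P).prod = (s.map P).prod := by
          rw [← Multiset.prod_cons, ← Multiset.map_cons, Multiset.cons_erase hs]
        push_cast
        linear_combination ((a : A) * (Multiset.count a s : A)) * h1
      · rw [Multiset.count_eq_zero.mpr hs]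
        push_cast
        ring
    · rw [if_neg h, Multiset.count_cons_of_ne (Ne.symm h), mul_zero, add_zero,
        Multiset.erase_cons_tail _ (by simpa using h), Multiset.map_cons, Multiset.prod_cons]
      ring

theorem D_SS {D : Derivation ℂ A A} {r : ℕ} (hr : 0 < r)
    (hD : ∀ s, 0 < s → D (P s) = if s = r then (r : A) else 0) {k : ℕ} (hrk : r ≤ k) (β : Fin m → ℕ) :
    D (SS P k β) = ∑ j, if r ≤ β j then SS P (k - r) (dn β j r) else 0 := by
  have h0 : D (SS P k β) = ZV k (fun s => ((r * s.count r : ℕ) : ℂ) •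
      ((FM s β : ℂ) • ((s.erase r).map P).prod)) := by
    rw [SS, show D (ZV k fun s => (FM s β : ℂ) • (s.map P).prod) = (D : A →ₗ[ℂ] A) (ZV k fun s =>
      (FM s β : ℂ) • (s.map P).prod) from rfl, ZV_map]
    refine ZV_congr fun s _ hpos => ?_
    rw [map_smul, Derivation.coeFn_coe, D_prod P hD s hpos, smul_comm _ (FM s β : ℂ)]
    congr 1
    rw [Algebra.smul_def, map_natCast]
  rw [h0, ZV_mark hr hrk]
  have h : ∀ j, (if r ≤ β j then SS P (k - r) (dn β j r) else 0) =
      ZV (k - r) (fun s => (if r ≤ β j then (FM s (dn β j r) : ℂ) else 0) • (s.map P).prod) := by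
    intro j
    by_cases hj : r ≤ β j
    · simp only [if_pos hj]; rfl
    · simp only [if_neg hj, zero_smul]; exact (ZV_zero _).symm
  rw [Finset.sum_congr rfl fun j _ => h j, ← ZV_finsum]
  refine ZV_congr fun s _ _ => ?_
  rw [Multiset.erase_cons_head, FM_cons, ← Finset.sum_smul]
  congr 1
  push_cast
  rfl

theorem D_SS_lt {D : Derivation ℂ A A} {r : ℕ}
    (hD : ∀ s, 0 < s → D (P s) = if s = r then (r : A) else 0) {k : ℕ} (hrk : k < r) (β : Fin m → ℕ) :
    D (SS P k β) = 0 := by
  rw [SS, show D (ZV k fun s => (FM s β : ℂ) • (s.map P).prod) = (D : A →ₗ[ℂ] A) (ZV k fun s =>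
      (FM s β : ℂ) • (s.map P).prod) from rfl, ZV_map, ZV_congr (g := fun _ => 0), ZV_zero]
  intro s hs hpos
  have h1 : r ∉ s := fun h => by
    have := Multiset.le_sum_of_mem h
    omega
  rw [map_smul, Derivation.coeFn_coe, D_prod P hD s hpos, Multiset.count_eq_zero.mpr h1]
  simp

theorem D_SS_zero {D : Derivation ℂ A A} (hD : ∀ s, 0 < s → D (P s) = 0) (k : ℕ) (β : Fin m → ℕ) :
    D (SS P k β) = 0 := by
  rw [SS, show D (ZV k fun s => (FM s β : ℂ) • (s.map P).prod) = (D : A →ₗ[ℂ] A) (ZV k fun s =>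
      (FM s β : ℂ) • (s.map P).prod) from rfl, ZV_map, ZV_congr (g := fun _ => 0), ZV_zero]
  intro s hs hpos
  have h1 : D (s.map P).prod = 0 := by
    clear hs
    induction s using Multiset.induction_on with
    | empty => simp
    | cons a s ih =>
      rw [Multiset.map_cons, Multiset.prod_cons, Derivation.leibniz, ih fun i hi => hpos i (Multiset.mem_cons_of_mem hi),
        hD a (hpos a (Multiset.mem_cons_self a s))]
      simp
  rw [map_smul, Derivation.coeFn_coe, h1, smul_zero]

/-! ### Raising -/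

theorem mul_SS {r : ℕ} (hr : 0 < r) {k : ℕ} (hk : k + r ≤ m) (β : Fin m → ℕ) :
    P r * SS P k β = ∑ j, SS P (k + r) (up β j r) := by
  have h1 : ∑ j, SS P (k + r) (up β j r) = ZV (k + r) (fun s => ((r * s.count r : ℕ) : ℂ) •
      ((FM (s.erase r) β : ℂ) • (s.map P).prod)) := by
    unfold SS
    rw [← ZV_finsum]
    refine ZV_congr fun s hs hpos => ?_
    rw [← Finset.sum_smul, smul_smul]
    congr 1
    have := raise_eq hr (m := m) (s := s) (by omega) hpos β
    exact_mod_cast congrArg (fun z : ℤ => (z : ℂ)) this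
  rw [h1, ZV_mark hr (by omega), Nat.add_sub_cancel]
  have h2 := ZV_map (LinearMap.mulLeft ℂ (P r)) k (fun s => (FM s β : ℂ) • (s.map P).prod)
  rw [LinearMap.mulLeft_apply] at h2
  rw [SS, h2]
  refine ZV_congr fun s _ _ => ?_
  rw [map_smul, Multiset.erase_cons_head, Multiset.map_cons, Multiset.prod_cons]
  rfl

/-- **Expansion of the power sums.** -/
theorem prod_eq_sum_SS {n : ℕ} (hn : n ≤ m) (κ : n.Partition) :
    (κ.parts.map P).prod = ∑ ν : n.Partition, (FM κ.parts (betaOf m ν.parts) : ℂ) • SS P n (betaOf m ν.parts) := by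
  have h1 : ∀ ν : n.Partition, (FM κ.parts (betaOf m ν.parts) : ℂ) • SS P n (betaOf m ν.parts) =
      ∑ κ' : n.Partition, ((FM κ.parts (betaOf m ν.parts) : ℂ) * FM κ'.parts (betaOf m ν.parts)) •
        ((zz κ'.parts : ℂ)⁻¹ • (κ'.parts.map P).prod) := by
    intro ν
    rw [SS, ZV, Finset.smul_sum]
    refine Finset.sum_congr rfl fun κ' _ => ?_
    rw [smul_smul, smul_smul, smul_smul]
    congr 1
    ring
  rw [Finset.sum_congr rfl fun ν _ => h1 ν, Finset.sum_comm]
  have h2 : ∀ κ' : n.Partition, ∑ ν : n.Partition, ((FM κ.parts (betaOf m ν.parts) : ℂ) *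
      FM κ'.parts (betaOf m ν.parts)) • ((zz κ'.parts : ℂ)⁻¹ • (κ'.parts.map P).prod) =
      if κ = κ' then (κ'.parts.map P).prod else 0 := by
    intro κ'
    rw [← Finset.sum_smul]
    have h3 := column_ortho hn κ κ'
    have h4 : ∑ ν : n.Partition, ((FM κ.parts (betaOf m ν.parts) : ℂ) * FM κ'.parts (betaOf m ν.parts)) =
        if κ = κ' then (zz κ.parts : ℂ) else 0 := by
      have h5 := congrArg (fun z : ℚ => (z : ℂ)) h3
      push_cast at h5
      rw [h5]
      split_ifs <;> simp
    rw [h4]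
    split_ifs with h
    · subst h
      rw [smul_smul, mul_inv_cancel₀, one_smul]
      have : 0 < zz κ.parts := zz_pos fun i hi => κ.parts_pos hi
      exact_mod_cast this.ne'
    · rw [zero_smul]
  rw [Finset.sum_congr rfl fun κ' _ => h2 κ', Finset.sum_ite_eq, if_pos (Finset.mem_univ _)]

end SS

end Cfsg.Agent.H614.GLn
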