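import Cfsg.Agent.H577.GLB.Std
import Cfsg.Agent.H614.GLn.Sym

/-!
# The Wick form of the standard model: adjoint derivations and orthonormality of the Schur products
-/

set_option autoImplicit false

open scoped ComplexConjugate

namespace Cfsg.Agent.H614.GLn.RSt

open MvPolynomial Cfsg.Agent.H614 Cfsg.Agent.H577.GLB.Std Cfsg.Agent.H614.GLn

section form

variable (Q : ℤ) (M : ℕ)

/-- the norm of a monomial -/
noncomputable def Nf (s : Var M →₀ ℕ) : ℂ := s.prod fun v e => (e.factorial : ℂ) * (H577.GLB.Std.zz Q M v : ℂ) ^ e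

theorem form_eq {P P' : RS M} {S : Finset (Var M →₀ ℕ)} (hS : P.support ⊆ S) :
    form Q M P P' = ∑ s ∈ S, P.coeff s * conj (P'.coeff s) * Nf Q M s := by
  unfold form
  refine Finset.sum_subset hS fun s _ hs => ?_
  rw [MvPolynomial.notMem_support_iff.1 hs, zero_mul, zero_mul]

theorem form_add_left (P P₁ P' : RS M) : form Q M (P + P₁) P' = form Q M P P' + form Q M P₁ P' := by
  classical
  have h1 : P.support ⊆ P.support ∪ P₁.support ∪ (P + P₁).support :=
    fun x hx => Finset.mem_union_left _ (Finset.mem_union_left _ hx)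
  have h2 : P₁.support ⊆ P.support ∪ P₁.support ∪ (P + P₁).support :=
    fun x hx => Finset.mem_union_left _ (Finset.mem_union_right _ hx)
  have h3 : (P + P₁).support ⊆ P.support ∪ P₁.support ∪ (P + P₁).support :=
    fun x hx => Finset.mem_union_right _ hx
  rw [form_eq Q M h1, form_eq Q M h2, form_eq Q M h3, ← Finset.sum_add_distrib]
  refine Finset.sum_congr rfl fun s _ => ?_
  rw [coeff_add]; ring

theorem form_smul_left (a : ℂ) (P P' : RS M) : form Q M (a • P) P' = a * form Q M P P' := by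
  classical
  have h1 : P.support ⊆ P.support ∪ (a • P).support := fun x hx => Finset.mem_union_left _ hx
  have h3 : (a • P).support ⊆ P.support ∪ (a • P).support := fun x hx => Finset.mem_union_right _ hx
  rw [form_eq Q M h1, form_eq Q M h3, Finset.mul_sum]
  refine Finset.sum_congr rfl fun s _ => ?_
  rw [coeff_smul, smul_eq_mul]; ring

theorem form_add_right (P P' P₁ : RS M) : form Q M P (P' + P₁) = form Q M P P' + form Q M P P₁ := by
  unfold form
  rw [← Finset.sum_add_distrib]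
  refine Finset.sum_congr rfl fun s _ => ?_
  rw [coeff_add, map_add]; ring

theorem form_smul_right (a : ℂ) (P P' : RS M) : form Q M P (a • P') = conj a * form Q M P P' := by
  unfold form
  rw [Finset.mul_sum]
  refine Finset.sum_congr rfl fun s _ => ?_
  rw [coeff_smul, smul_eq_mul, map_mul]; ring

theorem form_zero_left (P' : RS M) : form Q M 0 P' = 0 := by
  have := form_smul_left Q M 0 0 P'
  rwa [zero_smul, zero_mul] at this

theorem form_zero_right (P : RS M) : form Q M P 0 = 0 := by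
  have := form_smul_right Q M 0 P 0
  rwa [zero_smul, map_zero, zero_mul] at this

theorem form_sum_left {ι : Type*} (t : Finset ι) (f : ι → RS M) (P' : RS M) :
    form Q M (∑ i ∈ t, f i) P' = ∑ i ∈ t, form Q M (f i) P' := by
  classical
  induction t using Finset.induction_on with
  | empty => rw [Finset.sum_empty, Finset.sum_empty, form_zero_left]
  | insert a s ha ih => rw [Finset.sum_insert ha, Finset.sum_insert ha, form_add_left, ih]

theorem form_sum_right {ι : Type*} (t : Finset ι) (f : ι → RS M) (P : RS M) :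
    form Q M P (∑ i ∈ t, f i) = ∑ i ∈ t, form Q M P (f i) := by
  classical
  induction t using Finset.induction_on with
  | empty => rw [Finset.sum_empty, Finset.sum_empty, form_zero_right]
  | insert a s ha ih => rw [Finset.sum_insert ha, Finset.sum_insert ha, form_add_right, ih]

theorem form_monomial_left (s : Var M →₀ ℕ) (a : ℂ) (P' : RS M) :
    form Q M (monomial s a) P' = a * conj (P'.coeff s) * Nf Q M s := by
  classical
  rw [form_eq Q M (S := {s}) support_monomial_subset, Finset.sum_singleton, coeff_monomial, if_pos rfl]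

theorem Nf_add (s : Var M →₀ ℕ) (v : Var M) :
    Nf Q M (s + Finsupp.single v 1) = Nf Q M s * ((s v : ℂ) + 1) * H577.GLB.Std.zz Q M v := by
  classical
  have h0 : ∀ v : Var M, (((0 : ℕ).factorial : ℂ) * (H577.GLB.Std.zz Q M v : ℂ) ^ 0) = 1 := by intro v; simp
  unfold Nf
  rw [Finsupp.prod_of_support_subset (s + Finsupp.single v 1) (s := insert v s.support) ?_ _ (fun i _ => h0 i),
    Finsupp.prod_of_support_subset s (s := insert v s.support) (Finset.subset_insert _ _) _ (fun i _ => h0 i),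
    ← Finset.mul_prod_erase _ _ (Finset.mem_insert_self v s.support),
    ← Finset.mul_prod_erase _ (fun i => ((s i).factorial : ℂ) * (H577.GLB.Std.zz Q M i : ℂ) ^ s i)
      (Finset.mem_insert_self v s.support)]
  · have h1 : ∏ x ∈ (insert v s.support).erase v, (((s + Finsupp.single v 1 : Var M →₀ ℕ) x).factorial : ℂ) *
        (H577.GLB.Std.zz Q M x : ℂ) ^ ((s + Finsupp.single v 1 : Var M →₀ ℕ) x) =
        ∏ x ∈ (insert v s.support).erase v, ((s x).factorial : ℂ) * (H577.GLB.Std.zz Q M x : ℂ) ^ s x := by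
      refine Finset.prod_congr rfl fun x hx => ?_
      rw [Finsupp.add_apply, Finsupp.single_eq_of_ne (Finset.ne_of_mem_erase hx), add_zero]
    rw [h1, Finsupp.add_apply, Finsupp.single_eq_same, Nat.factorial_succ, pow_succ]
    push_cast
    ring
  · intro x hx
    rw [Finsupp.mem_support_iff, Finsupp.add_apply] at hx
    rw [Finset.mem_insert]
    by_cases h : x = v
    · exact Or.inl h
    · right
      rw [Finsupp.single_eq_of_ne h, add_zero] at hx
      exact Finsupp.mem_support_iff.2 hx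

/-- the adjoint of the multiplication by the variable `v` -/
noncomputable def Dv (v : Var M) : Derivation ℂ (RS M) (RS M) := (H577.GLB.Std.zz Q M v : ℂ) • pderiv v

theorem Dv_apply (v : Var M) (P : RS M) : Dv Q M v P = (H577.GLB.Std.zz Q M v : ℂ) • pderiv v P := rfl

/-- **Adjointness.** -/
theorem form_X_mul (v : Var M) (P P' : RS M) : form Q M (X v * P) P' = form Q M P (Dv Q M v P') := by
  induction P using MvPolynomial.induction_on' with
  | monomial s a =>
    rw [X, monomial_mul, one_mul, form_monomial_left, form_monomial_left, add_comm, Nf_add, Dv_apply, coeff_smul,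
      coeff_pderiv, smul_eq_mul]
    simp only [map_mul, map_add, map_one, Complex.conj_natCast]
    ring
  | add P P₁ h h₁ => rw [mul_add, form_add_left, form_add_left, h, h₁]

theorem form_mul_adj {x : RS M} {E : Derivation ℂ (RS M) (RS M)}
    (h : ∀ P P' : RS M, form Q M (x * P) P' = form Q M P (E P')) (P P' : RS M) :
    form Q M (x * P) P' = form Q M P (E P') := h P P'

end form

/-! ### Labels -/

section labels

variable {Q : ℤ} {M : ℕ} [NeZero M]

theorem exists_pow_eq_one (hQ : IsUnit (Q : ZMod M)) : ∃ N : ℕ, 0 < N ∧ (Q : ZMod M) ^ N = 1 := by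
  obtain ⟨w, hw⟩ := hQ
  refine ⟨orderOf w, orderOf_pos w, ?_⟩
  rw [← hw, ← Units.val_pow_eq_pow_val, pow_orderOf_eq_one, Units.val_one]

theorem sameZ_refl (c : ZMod M) : SameZ Q M c c := ⟨0, by simp⟩

theorem SameZ.symm' (hQ : IsUnit (Q : ZMod M)) {c c' : ZMod M} (h : SameZ Q M c c') : SameZ Q M c' c := by
  obtain ⟨j, rfl⟩ := h
  obtain ⟨N, hN, h1⟩ := exists_pow_eq_one hQ
  refine ⟨N * j - j, ?_⟩
  rw [← mul_assoc, ← pow_add, Nat.sub_add_cancel (Nat.le_mul_of_pos_left j hN), pow_mul, h1, one_pow, one_mul]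

theorem SameZ.trans' {c c' c'' : ZMod M} (h : SameZ Q M c c') (h' : SameZ Q M c' c'') : SameZ Q M c c'' := by
  obtain ⟨j, rfl⟩ := h
  obtain ⟨k, rfl⟩ := h'
  exact ⟨k + j, by rw [pow_add, mul_assoc]⟩

theorem sameZ_canon (c : ZMod M) : SameZ Q M c (canon Q M c) := by
  have h := Nat.sInf_mem (s := {n : ℕ | ∃ j : ℕ, n = ((Q : ZMod M) ^ j * c).val}) ⟨_, 0, rfl⟩
  obtain ⟨j, hj⟩ := h
  refine ⟨j, ?_⟩
  rw [canon, hj, ZMod.natCast_zmod_val]

theorem canon_eq_of_same (hQ : IsUnit (Q : ZMod M)) {c c' : ZMod M} (h : SameZ Q M c c') :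
    canon Q M c = canon Q M c' := by
  rw [canon, canon]
  congr 2
  ext n
  constructor
  · rintro ⟨j, rfl⟩
    obtain ⟨k, hk⟩ := SameZ.symm' hQ h
    exact ⟨j + k, by rw [hk, pow_add, mul_assoc]⟩
  · rintro ⟨j, rfl⟩
    obtain ⟨k, hk⟩ := h
    exact ⟨j + k, by rw [hk, pow_add, mul_assoc]⟩

theorem canon_canon (hQ : IsUnit (Q : ZMod M)) (c : ZMod M) : canon Q M (canon Q M c) = canon Q M c :=
  (canon_eq_of_same hQ (sameZ_canon c)).symm

theorem canon_eq_iff (hQ : IsUnit (Q : ZMod M)) {c c' : ZMod M} :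
    canon Q M c = canon Q M c' ↔ SameZ Q M c c' := by
  refine ⟨fun h => ?_, canon_eq_of_same hQ⟩
  have h1 := sameZ_canon (Q := Q) c
  rw [h] at h1
  exact SameZ.trans' h1 (SameZ.symm' hQ (sameZ_canon c'))

theorem iter_mul (j : ℕ) (c : ZMod M) : (fun x : ZMod M => (Q : ZMod M) * x)^[j] c = (Q : ZMod M) ^ j * c := by
  induction j with
  | zero => simp
  | succ j ih => rw [Function.iterate_succ_apply', ih, pow_succ', mul_assoc]

theorem perZ_pos (hQ : IsUnit (Q : ZMod M)) (c : ZMod M) : 0 < perZ Q M c := by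
  obtain ⟨N, hN, h1⟩ := exists_pow_eq_one hQ
  refine Function.IsPeriodicPt.minimalPeriod_pos hN ?_
  rw [Function.IsPeriodicPt, Function.IsFixedPt, iter_mul, h1, one_mul]

theorem pow_mul_eq_iff (j : ℕ) (c : ZMod M) : (Q : ZMod M) ^ j * c = c ↔ perZ Q M c ∣ j := by
  rw [perZ, ← Function.isPeriodicPt_iff_minimalPeriod_dvd, Function.IsPeriodicPt, Function.IsFixedPt, iter_mul]

theorem torZ_iff (k : ℕ) (c : ZMod M) : TorZ Q M k c ↔ perZ Q M c ∣ k := by
  rw [TorZ, sub_mul, one_mul, sub_eq_zero, pow_mul_eq_iff]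

theorem perZ_of_same (hQ : IsUnit (Q : ZMod M)) {c c' : ZMod M} (h : SameZ Q M c c') :
    perZ Q M c = perZ Q M c' := by
  have key : ∀ {c c' : ZMod M}, SameZ Q M c c' → perZ Q M c' ∣ perZ Q M c := by
    intro c c' h
    obtain ⟨j, rfl⟩ := h
    rw [← pow_mul_eq_iff, mul_left_comm, (pow_mul_eq_iff _ c).2 dvd_rfl]
  exact Nat.dvd_antisymm (key (SameZ.symm' hQ h)) (key h)

theorem zz_eq' (hQ : IsUnit (Q : ZMod M)) {k : ℕ} {c : ZMod M} (h : TorZ Q M k c) :
    perZ Q M c * H577.GLB.Std.zz Q M (k, c) = k := by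
  obtain ⟨l, rfl⟩ := (torZ_iff k c).1 h
  congr 1
  rw [H577.GLB.Std.zz]
  simp only [pow_mul_eq_iff]
  have h0 := perZ_pos hQ c
  have h1 : (Finset.range (perZ Q M c * l)).filter (fun x => perZ Q M c ∣ x) =
      (Finset.range l).image (fun x => perZ Q M c * x) := by
    ext x
    simp only [Finset.mem_filter, Finset.mem_range, Finset.mem_image]
    constructor
    · rintro ⟨hx, y, rfl⟩
      exact ⟨y, lt_of_mul_lt_mul_left hx (Nat.zero_le _), rfl⟩
    · rintro ⟨y, hy, rfl⟩
      exact ⟨Nat.mul_lt_mul_of_pos_left hy h0, dvd_mul_right _ _⟩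
  rw [h1, Finset.card_image_of_injective _ (fun a b hab => Nat.eq_of_mul_eq_mul_left h0 hab), Finset.card_range]

variable (Q M) in
/-- the representatives of the labels -/
noncomputable def repsZ : Finset (ZMod M) := by
  classical exact Finset.univ.filter fun c => canon Q M c = c

theorem mem_repsZ {c : ZMod M} : c ∈ repsZ Q M ↔ canon Q M c = c := by
  classical
  rw [repsZ, Finset.mem_filter]; simp

theorem canon_mem_repsZ (hQ : IsUnit (Q : ZMod M)) (c : ZMod M) : canon Q M c ∈ repsZ Q M :=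
  mem_repsZ.2 (canon_canon hQ c)

theorem Pw_eq {c : ZMod M} (hQ : IsUnit (Q : ZMod M)) (hc : c ∈ repsZ Q M) {j : ℕ} (hj : 0 < j) :
    Pw Q M j c = X (j * perZ Q M c, c) := by
  rw [Pw, rv, if_pos ⟨Nat.mul_pos hj (perZ_pos hQ c), (torZ_iff _ c).2 (dvd_mul_left _ _)⟩, mem_repsZ.1 hc]

theorem zz_Pw {c : ZMod M} (hQ : IsUnit (Q : ZMod M)) (j : ℕ) :
    H577.GLB.Std.zz Q M (j * perZ Q M c, c) = j := by
  have h := zz_eq' hQ ((torZ_iff (j * perZ Q M c) c).2 (dvd_mul_left _ _))
  rw [mul_comm j] at h ⊢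
  exact Nat.eq_of_mul_eq_mul_left (perZ_pos hQ c) h

/-- the lowering derivation of the label `c` -/
noncomputable def DP (Q : ℤ) (M : ℕ) (r : ℕ) (c : ZMod M) : Derivation ℂ (RS M) (RS M) :=
  Dv Q M (r * perZ Q M c, c)

theorem DP_Pw {c c' : ZMod M} (hQ : IsUnit (Q : ZMod M)) (hc : c ∈ repsZ Q M) (hc' : c' ∈ repsZ Q M)
    {r : ℕ} (s : ℕ) (hs : 0 < s) :
    DP Q M r c (Pw Q M s c') = if c' = c ∧ s = r then (r : RS M) else 0 := by
  rw [Pw_eq hQ hc' hs, DP, Dv_apply, pderiv_X, zz_Pw hQ]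
  by_cases h : c' = c ∧ s = r
  · obtain ⟨rfl, rfl⟩ := h
    rw [if_pos ⟨rfl, rfl⟩, Pi.single_eq_same, Algebra.smul_def, mul_one, map_natCast]
  · rw [if_neg h, Pi.single_eq_of_ne, smul_zero]
    intro h1
    apply h
    have h2 := (Prod.ext_iff.1 h1).2
    have h3 := (Prod.ext_iff.1 h1).1
    dsimp only at h2 h3
    subst h2
    exact ⟨rfl, (Nat.eq_of_mul_eq_mul_right (perZ_pos hQ c') h3)⟩

theorem form_Pw_mul {c : ZMod M} (hQ : IsUnit (Q : ZMod M)) (hc : c ∈ repsZ Q M) {r : ℕ} (hr : 0 < r)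
    (P P' : RS M) : form Q M (Pw Q M r c * P) P' = form Q M P (DP Q M r c P') := by
  rw [Pw_eq hQ hc hr, form_X_mul]; rfl

end labels

end Cfsg.Agent.H614.GLn.RSt
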