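import Cfsg.Agent.H614.GLn.IrrLab
import Cfsg.Agent.H421.GLn.NeckGL

/-!
# GB1: the labels of the irreducible characters of `GL_n(F)`
-/

set_option autoImplicit false

namespace Cfsg.Agent.H577.GLB.Real

open Cfsg Cfsg.Agent Cfsg.Agent.H614.GLn Cfsg.Agent.H614.GLn.RSt Cfsg.Agent.H577.GLB.Std

universe u w

variable {F : Type u} [Field F] {K : Type w} [Field K] [Algebra F K] {θ : K →*₀ ℂ} {N M : ℕ} [NeZero M]

theorem hInt (ctx : Ctx F θ N M) : HInt F θ N M := by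
  intro c j hj
  have hp := perZ_pos (Q := (Nat.card F : ℤ)) (H112.GLB.isUnit_card ctx) c
  have ht : TorZ (Nat.card F : ℤ) M (perZ (Nat.card F : ℤ) M c) c := (torZ_iff _ _).2 dvd_rfl
  have h := H421.GLn.hRS_vc ctx hp ht hj
  rwa [H421.GLn.piA_hRS ctx hp ht hj] at h

/-- GB1: labels of irreducible characters -/
theorem isLab_bij (hctx : Ctx F θ N M) {m n : ℕ} (hn : n ≤ N) (hm : n ≤ m) :
    (∀ χ : IrrCharacter (GL (Fin n) F), ∃! t : LabZ (Nat.card F) M m n, IsLab θ M m n χ t) ∧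
    (∀ t : LabZ (Nat.card F) M m n, ∃! χ : IrrCharacter (GL (Fin n) F), IsLab θ M m n χ t) :=
  isLab_bij_of hctx (hInt hctx) hn hm

end Cfsg.Agent.H577.GLB.Real
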