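import Cfsg.Agent.H614.GLn.RSOrtho
import Cfsg.Agent.H577.GLB.StdLab

/-!
# The orthonormality of the labelled Schur products
-/

set_option autoImplicit false

open scoped ComplexConjugate

namespace Cfsg.Agent.H614.GLn.RSt

open MvPolynomial Cfsg.Agent.H614 Cfsg.Agent.H577.GLB.Std Cfsg.Agent.H614.GLn

variable {Q : ℤ} {M : ℕ} {m : ℕ}

theorem zz_eq_prod (s : Multiset ℕ) : (H614.zz s : ℂ) =
    ∏ i ∈ s.toFinset, (i : ℂ) ^ (s.count i) * ((s.count i).factorial : ℂ) := by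
  rw [H614.zz, Finset.prod_multiset_count]
  push_cast
  rw [← Finset.prod_mul_distrib]

theorem Sch_eq_SS (c : ZMod M) (β : Fin m → ℕ) :
    Sch Q M c β = SS (fun j => Pw Q M j c) (∑ i, β i - ∑ i : Fin m, (i : ℕ)) β := by
  unfold Sch SS ZV
  refine Finset.sum_congr rfl fun ν _ => ?_
  rw [← zz_eq_prod, smul_smul, div_eq_mul_inv, mul_comm (FM ν.parts β : ℂ)]

variable [NeZero M]

theorem SchP_eq (t : ZMod M → Fin m → ℕ) :
    SchP Q M t = prodS Q M (repsZ Q M) (fun c => H577.GLB.Std.bsz (t c)) t := by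
  unfold SchP prodS repsZ
  exact Finset.prod_congr rfl fun c _ => Sch_eq_SS c (t c)

theorem sum_le_of_mono {β : Fin m → ℕ} (h : StrictMono β) : ∑ i : Fin m, (i : ℕ) ≤ ∑ i, β i :=
  Finset.sum_le_sum fun i _ => strictMono_le h i

theorem sum_eq_bsz {β : Fin m → ℕ} (h : StrictMono β) : ∑ i, β i = H577.GLB.Std.bsz β + ∑ i : Fin m, (i : ℕ) := by
  have := sum_le_of_mono h
  rw [H577.GLB.Std.bsz]; omega

theorem t_pow (t : ZMod M → Fin m → ℕ) (ht : ∀ c, t ((Q : ZMod M) * c) = t c) (j : ℕ) (c : ZMod M) :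
    t ((Q : ZMod M) ^ j * c) = t c := by
  induction j with
  | zero => simp
  | succ j ih => rw [pow_succ', mul_assoc, ht, ih]

theorem t_canon (t : ZMod M → Fin m → ℕ) (ht : ∀ c, t ((Q : ZMod M) * c) = t c) (c : ZMod M) :
    t (canon Q M c) = t c := by
  obtain ⟨j, hj⟩ := sameZ_canon (Q := Q) c
  rw [hj, t_pow t ht]

/-- **Orthonormality of the labelled products.** -/
theorem form_SchP (hQ : IsUnit (Q : ZMod M)) {n n' : ℕ} (t : LabZ Q M m n) (t' : LabZ Q M m n') :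
    form Q M (SchP Q M t.t) (SchP Q M t'.t) = if t.t = t'.t then 1 else 0 := by
  rw [SchP_eq, SchP_eq, form_prodS hQ (repsZ Q M) (Finset.Subset.refl _) _ _ _ _ _
    (fun c _ => sum_eq_bsz (t.mono c)) (fun c _ => sum_eq_bsz (t'.mono c)) rfl]
  split_ifs with h
  · refine Finset.prod_eq_one fun c _ => ?_
    rw [h, pair_self_of_strictMono (t'.mono c)]; simp
  · obtain ⟨c, hc⟩ : ∃ c, t.t c ≠ t'.t c := by
      by_contra hne
      push Not at hne
      exact h (funext hne)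
    refine Finset.prod_eq_zero (canon_mem_repsZ hQ c) ?_
    rw [t_canon t.t t.orb, t_canon t'.t t'.orb, pair_eq_zero_of_strictMono (t.mono c) (t'.mono c) hc]
    simp

end Cfsg.Agent.H614.GLn.RSt
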