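import Cfsg.Agent.H614.GLn.RSTau
import Cfsg.Agent.H614.GLn.RSLab

/-!
# Truncation preserves the families
-/

set_option autoImplicit false

open scoped ComplexConjugate

namespace Cfsg.Agent.H614.GLn.RSt

open MvPolynomial Cfsg.Agent.H614 Cfsg.Agent.H577.GLB.Std Cfsg.Agent.H614.GLn

variable {Q : ℤ} {M : ℕ} [NeZero M] {p : ℕ} {m : ℕ}

/-! ### `p`-power order -/

theorem pPow_iff (hp : p.Prime) (c : ZMod M) : PPow M p c ↔ ∃ j : ℕ, (p : ZMod M) ^ j * c = 0 := by
  constructor
  · rintro ⟨j, hj⟩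
    refine ⟨j, ?_⟩
    have h := addOrderOf_nsmul_eq_zero c
    rw [hj, nsmul_eq_mul] at h
    simpa using h
  · rintro ⟨j, hj⟩
    have h : addOrderOf c ∣ p ^ j := by
      apply addOrderOf_dvd_of_nsmul_eq_zero
      rw [nsmul_eq_mul]; simpa using hj
    obtain ⟨i, _, hi⟩ := (Nat.dvd_prime_pow hp).1 h
    exact ⟨i, hi⟩

theorem pPow_add (hp : p.Prime) {a b : ZMod M} (ha : PPow M p a) (hb : PPow M p b) : PPow M p (a + b) := by
  rw [pPow_iff hp] at ha hb ⊢
  obtain ⟨i, hi⟩ := ha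
  obtain ⟨j, hj⟩ := hb
  refine ⟨i + j, ?_⟩
  have e : (p : ZMod M) ^ (i + j) * (a + b) = p ^ j * (p ^ i * a) + p ^ i * (p ^ j * b) := by ring
  rw [e, hi, hj, mul_zero, mul_zero, add_zero]

theorem pPow_neg (hp : p.Prime) {a : ZMod M} (ha : PPow M p a) : PPow M p (-a) := by
  rw [pPow_iff hp] at ha ⊢
  obtain ⟨i, hi⟩ := ha
  exact ⟨i, by rw [mul_neg, hi, neg_zero]⟩

theorem pPow_mul (hp : p.Prime) {a : ZMod M} (ha : PPow M p a) (x : ZMod M) : PPow M p (x * a) := by
  rw [pPow_iff hp] at ha ⊢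
  obtain ⟨i, hi⟩ := ha
  exact ⟨i, by rw [mul_left_comm, hi, mul_zero]⟩

theorem pPow_of_mem_Eta (hp : p.Prime) {k : ℕ} {η : ZMod M} (h : η ∈ Eta Q M p k) : PPow M p η :=
  (pPow_iff hp η).2 (mem_Eta.1 h).2

open Classical in
/-- the number of `j < n` with `Q^j c ≡ δ` modulo elements of `p`-power order -/
noncomputable def cntP (Q : ℤ) (M p n : ℕ) (c δ : ZMod M) : ℕ :=
  ∑ j ∈ Finset.range n, if PPow M p ((Q : ZMod M) ^ j * c - δ) then 1 else 0

theorem cntP_add (hp : p.Prime) (n : ℕ) (c δ : ZMod M) {η : ZMod M} (h : PPow M p η) :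
    cntP Q M p n (c + η) δ = cntP Q M p n c δ := by
  classical
  unfold cntP
  refine Finset.sum_congr rfl fun j _ => ?_
  have h1 : PPow M p ((Q : ZMod M) ^ j * (c + η) - δ) ↔ PPow M p ((Q : ZMod M) ^ j * c - δ) := by
    constructor
    · intro h2
      have h3 := pPow_add hp h2 (pPow_neg hp (pPow_mul hp h ((Q : ZMod M) ^ j)))
      have e : (Q : ZMod M) ^ j * (c + η) - δ + -((Q : ZMod M) ^ j * η) = (Q : ZMod M) ^ j * c - δ := by ring
      rwa [e] at h3
    · intro h2
      have h3 := pPow_add hp h2 (pPow_mul hp h ((Q : ZMod M) ^ j))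
      have e : (Q : ZMod M) ^ j * c - δ + ((Q : ZMod M) ^ j * η) = (Q : ZMod M) ^ j * (c + η) - δ := by ring
      rwa [e] at h3
  simp only [h1]

theorem cntP_mul (n : ℕ) {c : ZMod M} (hc : TorZ Q M n c) (δ : ZMod M) :
    cntP Q M p n ((Q : ZMod M) * c) δ = cntP Q M p n c δ := by
  classical
  have h0 : (Q : ZMod M) ^ n * c = c := by
    unfold TorZ at hc
    rwa [sub_mul, one_mul, sub_eq_zero] at hc
  obtain ⟨f, hf⟩ : ∃ f : ℕ → ℕ, f = fun i => if PPow M p ((Q : ZMod M) ^ i * c - δ) then 1 else 0 := ⟨_, rfl⟩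
  have h1 : cntP Q M p n ((Q : ZMod M) * c) δ = ∑ j ∈ Finset.range n, f (j + 1) := by
    unfold cntP
    refine Finset.sum_congr rfl fun j _ => ?_
    rw [hf, ← mul_assoc, ← pow_succ]
  have h2 := Finset.sum_range_succ f n
  have h3 := Finset.sum_range_succ' f n
  have h4 : f n = f 0 := by rw [hf]; simp only [h0, pow_zero, one_mul]
  have h5 : cntP Q M p n c δ = ∑ j ∈ Finset.range n, f j := by rw [hf]; rfl
  rw [h1, h5]
  omega

theorem cntP_pow (n : ℕ) {c : ZMod M} (hc : TorZ Q M n c) (δ : ZMod M) (i : ℕ) :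
    cntP Q M p n ((Q : ZMod M) ^ i * c) δ = cntP Q M p n c δ := by
  induction i with
  | zero => simp
  | succ i ih => rw [pow_succ', mul_assoc, cntP_mul n (torZ_mul n hc i), ih]

theorem cntP_mul_per (c δ : ZMod M) (r : ℕ) :
    cntP Q M p (r * perZ Q M c) c δ = r * cntP Q M p (perZ Q M c) c δ := by
  classical
  induction r with
  | zero => simp [cntP]
  | succ r ih =>
    rw [Nat.succ_mul, cntP, Finset.sum_range_add, Nat.succ_mul, ← ih]
    congr 1
    unfold cntP
    refine Finset.sum_congr rfl fun j _ => ?_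
    rw [add_comm, pow_add, mul_assoc, (pow_mul_eq_iff _ c).2 (dvd_mul_left _ _)]

open Classical in
/-- the number of elements of the orbit of `c` which are `δ` modulo `p`-power order -/
noncomputable def fibP (Q : ℤ) (M : ℕ) [NeZero M] (p : ℕ) (c δ : ZMod M) : ℕ :=
  (Finset.univ.filter fun x : ZMod M => canon Q M x = c ∧ PPow M p (x - δ)).card

theorem fibP_eq (hQ : IsUnit (Q : ZMod M)) {c : ZMod M} (hc : c ∈ repsZ Q M) (δ : ZMod M) :
    fibP Q M p c δ = cntP Q M p (perZ Q M c) c δ := by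
  classical
  rw [fibP, cntP, ← Finset.card_filter]
  symm
  refine Finset.card_bij (fun j _ => (Q : ZMod M) ^ j * c) ?_ ?_ ?_
  · intro j hj
    rw [Finset.mem_filter] at hj ⊢
    have h1 : canon Q M c = canon Q M ((Q : ZMod M) ^ j * c) := canon_eq_of_same hQ ⟨j, rfl⟩
    exact ⟨Finset.mem_univ _, h1.symm.trans (mem_repsZ.1 hc), hj.2⟩
  · intro a ha b hb hab
    rw [Finset.mem_filter, Finset.mem_range] at ha hb
    have key : ∀ a b : ℕ, a ≤ b → b < perZ Q M c → (Q : ZMod M) ^ a * c = (Q : ZMod M) ^ b * c → a = b := by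
      intro a b hab hb h
      obtain ⟨w, hw⟩ := hQ.pow a
      have h1 : (Q : ZMod M) ^ b * c = (Q : ZMod M) ^ a * ((Q : ZMod M) ^ (b - a) * c) := by
        rw [← mul_assoc, ← pow_add, Nat.add_sub_cancel' hab]
      rw [h1, ← hw] at h
      have h2 := (Units.mul_right_inj w).1 h
      have h3 := (pow_mul_eq_iff (b - a) c).1 h2.symm
      by_contra hne
      have := Nat.le_of_dvd (by omega) h3
      omega
    rcases le_total a b with h | h
    · exact key a b h hb.1 hab
    · exact (key b a h ha.1 hab.symm).symm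
  · intro x hx
    rw [Finset.mem_filter] at hx
    obtain ⟨j, hj⟩ := (canon_eq_iff hQ (c := c) (c' := x)).1 (by rw [hx.2.1, mem_repsZ.1 hc])
    refine ⟨j % perZ Q M c, ?_, ?_⟩
    · have h1 : (Q : ZMod M) ^ (j % perZ Q M c) * c = x := by
        rw [hj]
        conv_rhs => rw [← Nat.mod_add_div j (perZ Q M c), pow_add, mul_assoc,
          (pow_mul_eq_iff _ c).2 (dvd_mul_right _ _)]
      rw [Finset.mem_filter, Finset.mem_range, h1]
      exact ⟨Nat.mod_lt _ (perZ_pos hQ c), hx.2.2⟩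
    · rw [hj]
      conv_rhs => rw [← Nat.mod_add_div j (perZ Q M c), pow_add, mul_assoc,
        (pow_mul_eq_iff _ c).2 (dvd_mul_right _ _)]

/-- the multiplicities of a family of sizes on the representatives -/
noncomputable def nuP (Q : ℤ) (M : ℕ) [NeZero M] (p : ℕ) (k : ZMod M → ℕ) (δ : ZMod M) : ℕ :=
  ∑ c ∈ repsZ Q M, k c * fibP Q M p c δ

theorem sfun_eq_nuP (hQ : IsUnit (Q : ZMod M)) (t : ZMod M → Fin m → ℕ) (ht : ∀ c, t ((Q : ZMod M) * c) = t c)
    (δ : ZMod M) : sfun M p t δ = nuP Q M p (fun c => H577.GLB.Std.bsz (t c)) δ := by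
  classical
  rw [sfun, nuP, ← Finset.sum_fiberwise_of_maps_to (g := fun x => canon Q M x) (t := repsZ Q M)
    (fun x _ => canon_mem_repsZ hQ x)]
  refine Finset.sum_congr rfl fun c hc => ?_
  have h1 : ∀ x ∈ (Finset.univ.filter fun c : ZMod M => PPow M p (c - δ)).filter (fun x => canon Q M x = c),
      H577.GLB.Std.bsz (t x) = H577.GLB.Std.bsz (t c) := by
    intro x hx
    rw [Finset.mem_filter] at hx
    rw [← hx.2, t_canon t ht]
  rw [Finset.sum_congr rfl h1, Finset.sum_const, smul_eq_mul, mul_comm, fibP]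
  congr 2
  ext x
  simp only [Finset.mem_filter, Finset.mem_univ, true_and]
  exact and_comm

/-! ### Orders modulo `p` -/

theorem dvd_of_mem_Eta (hp : p.Prime) {n : ℕ} {η : ZMod M} (h : η ∈ Eta Q M p n) (h0 : η ≠ 0) :
    (Q : ZMod p) ^ n = 1 := by
  have : Fact p.Prime := ⟨hp⟩
  obtain ⟨h1, j, h2⟩ := mem_Eta.1 h
  by_contra hne
  apply h0
  have h3 : IsCoprime ((Q : ℤ) ^ n - 1) (p : ℤ) := by
    rw [Int.isCoprime_iff_gcd_eq_one]
    have h4 : ¬ (p : ℤ) ∣ Q ^ n - 1 := by
      intro h5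
      apply hne
      have h6 := (ZMod.intCast_zmod_eq_zero_iff_dvd (Q ^ n - 1) p).2 h5
      push_cast at h6
      exact sub_eq_zero.1 h6
    have h5 := (Int.isCoprime_iff_gcd_eq_one.1 ((Nat.prime_iff_prime_int.1 hp).coprime_iff_not_dvd.2 h4))
    rwa [Int.gcd_comm] at h5
  obtain ⟨a, b, hab⟩ := h3.pow_right (n := j)
  have h4 : ((a * (Q ^ n - 1) + b * (p : ℤ) ^ j : ℤ) : ZMod M) * η = η := by rw [hab]; simp
  push_cast at h4
  rw [add_mul, mul_assoc, mul_assoc] at h4
  unfold TorZ at h1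
  rw [h1, h2] at h4
  simpa using h4.symm

theorem eD_dvd {c : ZMod M} {r n : ℕ} (hn : r * perZ Q M c = n) (h : (Q : ZMod p) ^ n = 1) :
    eD Q M p c ∣ r := by
  rw [eD]
  apply orderOf_dvd_of_pow_eq_one
  rw [← pow_mul, mul_comm, hn, h]

theorem eD_of_same (hQ : IsUnit (Q : ZMod M)) {c c' : ZMod M} (h : SameZ Q M c c') : eD Q M p c = eD Q M p c' := by
  rw [eD, eD, perZ_of_same hQ h]

/-! ### The span of a family -/

/-- admissible families of tuples -/
structure Adm (Q : ℤ) (M : ℕ) [NeZero M] (p n : ℕ) (t0 : ZMod M → Fin m → ℕ) (k : ZMod M → ℕ)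
    (β : ZMod M → Fin m → ℕ) : Prop where
  sum : ∀ c ∈ repsZ Q M, ∑ i, β c i = k c + ∑ i : Fin m, (i : ℕ)
  nu : ∀ δ, nuP Q M p k δ = nuP Q M p (fun c => H577.GLB.Std.bsz (t0 c)) δ
  col : ∀ δ ∈ repsZ Q M, SameCol (eD Q M p δ) (t0 δ) (β δ)
  deg : ∑ c ∈ repsZ Q M, perZ Q M c * k c = n

/-- the span of the family of `t0` -/
noncomputable def Vfam (Q : ℤ) (M : ℕ) [NeZero M] (p n : ℕ) (t0 : ZMod M → Fin m → ℕ) : Submodule ℂ (RS M) :=
  Submodule.span ℂ {x | ∃ (k : ZMod M → ℕ) (β : ZMod M → Fin m → ℕ), Adm Q M p n t0 k β ∧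
    x = prodS Q M (repsZ Q M) k β}

theorem SS_mem_GenR (k : ℕ) (c : ZMod M) (β : Fin m → ℕ) :
    SS (fun j => Pw Q M j c) k β ∈ GenR Q M := by
  unfold SS ZV
  refine Subalgebra.sum_mem _ fun ν _ => Subalgebra.smul_mem _ (Subalgebra.smul_mem _ ?_ _) _
  refine Subalgebra.multiset_prod_mem _ fun x hx => ?_
  obtain ⟨j, _, rfl⟩ := Multiset.mem_map.1 hx
  exact Algebra.subset_adjoin ⟨(_, c), rfl⟩

theorem Vfam_le (n : ℕ) (t0 : ZMod M → Fin m → ℕ) : Vfam Q M p n t0 ≤ (GenR Q M).toSubmodule := by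
  refine Submodule.span_le.2 ?_
  rintro _ ⟨k, β, _, rfl⟩
  exact Subalgebra.prod_mem _ fun c _ => SS_mem_GenR _ c _

theorem fib_move (hQ : IsUnit (Q : ZMod M)) (hp : p.Prime) {c : ZMod M} (hc : c ∈ repsZ Q M) {n r r' : ℕ}
    (hr : r * perZ Q M c = n) {η : ZMod M} (hη : η ∈ Eta Q M p n)
    (hr' : r' * perZ Q M (canon Q M (c + η)) = n) (δ : ZMod M) :
    r' * fibP Q M p (canon Q M (c + η)) δ = r * fibP Q M p c δ := by
  have hTc : TorZ Q M n c := (torZ_iff n c).2 ⟨r, by rw [← hr, mul_comm]⟩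
  have hTη : TorZ Q M n (c + η) := torZ_add n hTc (mem_Eta.1 hη).1
  rw [fibP_eq hQ hc, fibP_eq hQ (canon_mem_repsZ hQ _), ← cntP_mul_per, ← cntP_mul_per, hr, hr']
  obtain ⟨i, hi⟩ := sameZ_canon (Q := Q) (c + η)
  rw [hi, cntP_pow n hTη, cntP_add hp n c δ (pPow_of_mem_Eta hp hη)]

open Classical in
theorem prodS_update (c : ZMod M) (hc : c ∈ repsZ Q M) (k : ZMod M → ℕ) (β : ZMod M → Fin m → ℕ) (a : ℕ)
    (δ : Fin m → ℕ) : prodS Q M (repsZ Q M) (Function.update k c a) (Function.update β c δ) =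
      SS (fun j => Pw Q M j c) a δ * ∏ x ∈ (repsZ Q M).erase c, SS (fun j => Pw Q M j x) (k x) (β x) := by
  rw [prodS, ← Finset.mul_prod_erase _ _ hc, Function.update_self, Function.update_self]
  congr 1
  refine Finset.prod_congr rfl fun x hx => ?_
  rw [Function.update_of_ne (Finset.ne_of_mem_erase hx), Function.update_of_ne (Finset.ne_of_mem_erase hx)]

theorem mul_prodS {c : ZMod M} (hc : c ∈ repsZ Q M) {r : ℕ} (hr : 0 < r) (k : ZMod M → ℕ)
    (β : ZMod M → Fin m → ℕ) (h : k c + r ≤ m) :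
    Pw Q M r c * prodS Q M (repsZ Q M) k β = ∑ i, prodS Q M (repsZ Q M) (Function.update k c (k c + r))
      (Function.update β c (up (β c) i r)) := by
  classical
  have h1 := prodS_update c hc k β (k c) (β c)
  rw [Function.update_eq_self, Function.update_eq_self] at h1
  rw [h1, ← mul_assoc, mul_SS (fun j => Pw Q M j c) hr h (β c), Finset.sum_mul]
  exact Finset.sum_congr rfl fun i _ => (prodS_update c hc k β _ _).symm

/-- the key move -/
theorem move_mem (hQ : IsUnit (Q : ZMod M)) (hp : p.Prime) {n : ℕ} (hn : n ≤ m) {t0 : ZMod M → Fin m → ℕ}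
    {k : ZMod M → ℕ} {β : ZMod M → Fin m → ℕ} (hA : Adm Q M p n t0 k β) {c : ZMod M} (hc : c ∈ repsZ Q M)
    {r : ℕ} (hr : 1 ≤ r) (hrk : r ≤ k c) {j : Fin m} (hj : r ≤ β c j)
    (hQp : (Q : ZMod p) ^ (r * perZ Q M c) = 1) {η : ZMod M} (hη : η ∈ Eta Q M p (r * perZ Q M c)) :
    rv Q M (r * perZ Q M c) (c + η) * prodS Q M (repsZ Q M) (Function.update k c (k c - r))
      (Function.update β c (dn (β c) j r)) ∈ Vfam Q M p n t0 := by
  classical
  set N := r * perZ Q M c with hN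
  have hN0 : 0 < N := Nat.mul_pos hr (perZ_pos hQ c)
  have hTη : TorZ Q M N (c + η) :=
    torZ_add N ((torZ_iff N c).2 ⟨r, by rw [hN, mul_comm]⟩) (mem_Eta.1 hη).1
  set c' := canon Q M (c + η) with hc'
  have hc'R : c' ∈ repsZ Q M := canon_mem_repsZ hQ _
  have hTc' : perZ Q M c' ∣ N := by
    rw [← torZ_iff, torZ_iff, ← perZ_of_same hQ (sameZ_canon (c + η)), ← torZ_iff]
    exact hTη
  obtain ⟨r', hr'⟩ := hTc'
  have hr'0 : 0 < r' := Nat.pos_of_ne_zero fun h => by rw [h, mul_zero] at hr'; omega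
  have hr'' : r' * perZ Q M c' = N := by rw [mul_comm]; exact hr'.symm
  have hrv : rv Q M N (c + η) = Pw Q M r' c' := by
    rw [Pw, hr'', rv_same hQ N (sameZ_canon (c + η))]
  set k' := Function.update k c (k c - r) with hk'
  set β' := Function.update β c (dn (β c) j r) with hβ'
  have hk'c : k' c = k c - r := Function.update_self _ _ _
  have hk'x : ∀ x, x ≠ c → k' x = k x := fun x hx => Function.update_of_ne hx _ _
  have hβ'c : β' c = dn (β c) j r := Function.update_self _ _ _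
  have hβ'x : ∀ x, x ≠ c → β' x = β x := fun x hx => Function.update_of_ne hx _ _
  have hdeg' : ∑ x ∈ repsZ Q M, perZ Q M x * k' x + N = n := by
    rw [← hA.deg, ← Finset.add_sum_erase _ _ hc, ← Finset.add_sum_erase _ (fun x => perZ Q M x * k x) hc, hk'c]
    have h1 : ∑ x ∈ (repsZ Q M).erase c, perZ Q M x * k' x = ∑ x ∈ (repsZ Q M).erase c, perZ Q M x * k x :=
      Finset.sum_congr rfl fun x hx => by rw [hk'x x (Finset.ne_of_mem_erase hx)]
    rw [h1]
    have h2 : perZ Q M c * (k c - r) + N = perZ Q M c * k c := by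
      rw [hN, mul_comm r, ← mul_add, Nat.sub_add_cancel hrk]
    omega
  have hdeg'' : ∑ x ∈ repsZ Q M, perZ Q M x * (Function.update k' c' (k' c' + r')) x = n := by
    rw [← hdeg', ← Finset.add_sum_erase _ _ hc'R, ← Finset.add_sum_erase _ (fun x => perZ Q M x * k' x) hc'R,
      Function.update_self]
    have h1 : ∑ x ∈ (repsZ Q M).erase c', perZ Q M x * (Function.update k' c' (k' c' + r')) x =
        ∑ x ∈ (repsZ Q M).erase c', perZ Q M x * k' x :=
      Finset.sum_congr rfl fun x hx => by rw [Function.update_of_ne (Finset.ne_of_mem_erase hx)]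
    rw [h1, mul_add, ← hr'' ]
    ring
  have hle : k' c' + r' ≤ m := by
    have h1 := Finset.single_le_sum (f := fun x => perZ Q M x * (Function.update k' c' (k' c' + r')) x)
      (fun _ _ => Nat.zero_le _) hc'R
    rw [hdeg'', Function.update_self] at h1
    have h2 := perZ_pos hQ c'
    have h3 : k' c' + r' ≤ perZ Q M c' * (k' c' + r') := Nat.le_mul_of_pos_left _ h2
    omega
  rw [hrv, mul_prodS hc'R hr'0 k' β' hle]
  refine Submodule.sum_mem _ fun i _ => Submodule.subset_span ⟨_, _, ?_, rfl⟩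
  refine ⟨?_, ?_, ?_, hdeg''⟩
  · intro x hx
    have h1 : ∀ x ∈ repsZ Q M, ∑ i, β' x i = k' x + ∑ i : Fin m, (i : ℕ) := by
      intro x hx
      by_cases hxc : x = c
      · subst hxc
        rw [hβ'c, hk'c]
        have h2 := sum_dn (β x) j hj
        have h3 := hA.sum x hx
        omega
      · rw [hβ'x x hxc, hk'x x hxc]; exact hA.sum x hx
    by_cases hxc : x = c'
    · subst hxc
      rw [Function.update_self, Function.update_self, sum_up, h1 _ hx]
      ring
    · rw [Function.update_of_ne hxc, Function.update_of_ne hxc]; exact h1 x hx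
  · intro δ
    rw [← hA.nu δ]
    have h1 : nuP Q M p (Function.update k' c' (k' c' + r')) δ = nuP Q M p k' δ + r' * fibP Q M p c' δ := by
      rw [nuP, nuP, ← Finset.add_sum_erase _ _ hc'R, ← Finset.add_sum_erase _ (fun x => k' x * fibP Q M p x δ) hc'R,
        Function.update_self]
      have h2 : ∑ x ∈ (repsZ Q M).erase c', (Function.update k' c' (k' c' + r')) x * fibP Q M p x δ =
          ∑ x ∈ (repsZ Q M).erase c', k' x * fibP Q M p x δ :=
        Finset.sum_congr rfl fun x hx => by rw [Function.update_of_ne (Finset.ne_of_mem_erase hx)]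
      rw [h2, add_mul]
      ring
    have h3 : nuP Q M p k' δ + r * fibP Q M p c δ = nuP Q M p k δ := by
      rw [nuP, nuP, ← Finset.add_sum_erase _ _ hc, ← Finset.add_sum_erase _ (fun x => k x * fibP Q M p x δ) hc, hk'c]
      have h2 : ∑ x ∈ (repsZ Q M).erase c, k' x * fibP Q M p x δ =
          ∑ x ∈ (repsZ Q M).erase c, k x * fibP Q M p x δ :=
        Finset.sum_congr rfl fun x hx => by rw [hk'x x (Finset.ne_of_mem_erase hx)]
      rw [h2]
      have h4 : (k c - r) * fibP Q M p c δ + r * fibP Q M p c δ = k c * fibP Q M p c δ := by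
        rw [← add_mul, Nat.sub_add_cancel hrk]
      omega
    rw [h1, fib_move hQ hp hc hN.symm hη hr'' δ, h3]
  · intro δ hδ
    have h1 : SameCol (eD Q M p δ) (t0 δ) (β' δ) := by
      by_cases hδc : δ = c
      · subst hδc
        rw [hβ'c]
        exact (hA.col δ hδ).trans (sameCol_dn (eD_dvd hN.symm hQp) (β δ) j hj).symm
      · rw [hβ'x δ hδc]; exact hA.col δ hδ
    by_cases hδc : δ = c'
    · subst hδc
      rw [Function.update_self]
      exact h1.trans (sameCol_up (eD_dvd hr'' hQp) (β' _) i).symm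
    · rw [Function.update_of_ne hδc]; exact h1

theorem deriv_prod {ι A : Type*} [DecidableEq ι] [CommRing A] [Algebra ℂ A] (E : Derivation ℂ A A) (R : Finset ι)
    (f : ι → A) : E (∏ i ∈ R, f i) = ∑ i ∈ R, E (f i) * ∏ x ∈ R.erase i, f x := by
  induction R using Finset.induction_on with
  | empty => simp
  | insert a s ha ih =>
    rw [Finset.prod_insert ha, Derivation.leibniz, ih, Finset.sum_insert ha, Finset.erase_insert ha, smul_eq_mul,
      smul_eq_mul, Finset.mul_sum, add_comm, mul_comm (∏ i ∈ s, f i)]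
    congr 1
    refine Finset.sum_congr rfl fun i hi => ?_
    have hne : a ≠ i := fun h => ha (h ▸ hi)
    rw [Finset.erase_insert_of_ne hne, Finset.prod_insert (fun h => ha (Finset.mem_of_mem_erase h))]
    ring

theorem Eta_trivial (hp : p.Prime) {n : ℕ} (h : (Q : ZMod p) ^ n ≠ 1) : Eta Q M p n = {0} := by
  ext η
  rw [Finset.mem_singleton]
  constructor
  · intro hη
    by_contra h0
    exact h (dvd_of_mem_Eta hp hη h0)
  · rintro rfl
    exact zero_mem_Eta n

/-- **The span of a family is stable under the singular derivation.** -/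
theorem Esing_mem (hQ : IsUnit (Q : ZMod M)) (hp : p.Prime) {n : ℕ} (hn : n ≤ m) {t0 : ZMod M → Fin m → ℕ}
    {x : RS M} (hx : x ∈ Vfam Q M p n t0) : Esing Q M p x ∈ Vfam Q M p n t0 := by
  classical
  induction hx using Submodule.span_induction with
  | zero => rw [map_zero]; exact Submodule.zero_mem _
  | add x y _ _ hx hy => rw [map_add]; exact Submodule.add_mem _ hx hy
  | smul a x _ hx => rw [Derivation.map_smul]; exact Submodule.smul_mem _ _ hx
  | mem x hx =>
    obtain ⟨k, β, hA, rfl⟩ := hx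
    rw [prodS, deriv_prod]
    refine Submodule.sum_mem _ fun c hc => ?_
    rw [E_SS, Finset.sum_mul]
    refine Submodule.sum_mem _ fun r hr => ?_
    rw [Finset.mem_Icc] at hr
    rw [smul_mul_assoc]
    refine Submodule.smul_mem _ _ ?_
    rw [Finset.mul_sum, Finset.sum_mul]
    refine Submodule.sum_mem _ fun j _ => ?_
    by_cases hj : r ≤ β c j
    · rw [if_pos hj, mul_assoc, ← prodS_update c hc k β (k c - r) (dn (β c) j r), Pw, Esing_rv]
      have hN0 : 0 < r * perZ Q M c := Nat.mul_pos hr.1 (perZ_pos hQ c)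
      have hT : TorZ Q M (r * perZ Q M c) c := (torZ_iff _ c).2 (dvd_mul_left _ _)
      rw [smul_mul_assoc]
      refine Submodule.smul_mem _ _ ?_
      by_cases hQp : (Q : ZMod p) ^ (r * perZ Q M c) = 1
      · rw [sub_mul]
        refine Submodule.sub_mem _ ?_ ?_
        · have := move_mem hQ hp hn hA hc hr.1 hr.2 hj hQp (zero_mem_Eta _)
          rwa [add_zero] at this
        · rw [tauP_rv hQ hN0 hT, smul_mul_assoc, Finset.sum_mul]
          refine Submodule.smul_mem _ _ (Submodule.sum_mem _ fun η hη => ?_)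
          exact move_mem hQ hp hn hA hc hr.1 hr.2 hj hQp hη
      · rw [tauP_rv hQ hN0 hT, Eta_trivial hp hQp, Finset.card_singleton, Finset.sum_singleton, add_zero,
          Nat.cast_one, inv_one, one_smul, sub_self, zero_mul]
        exact Submodule.zero_mem _
    · rw [if_neg hj, mul_zero, zero_mul]
      exact Submodule.zero_mem _

theorem nuP_deg (hQ : IsUnit (Q : ZMod M)) (t : ZMod M → Fin m → ℕ) (ht : ∀ c, t ((Q : ZMod M) * c) = t c) :
    ∑ c ∈ repsZ Q M, perZ Q M c * H577.GLB.Std.bsz (t c) = ∑ c : ZMod M, H577.GLB.Std.bsz (t c) := by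
  classical
  have h0 := Finset.sum_fiberwise_of_maps_to (s := (Finset.univ : Finset (ZMod M))) (g := fun x => canon Q M x)
    (t := repsZ Q M) (fun x _ => canon_mem_repsZ hQ x) (fun c => H577.GLB.Std.bsz (t c))
  rw [← h0]
  refine Finset.sum_congr rfl fun c hc => ?_
  have h1 : ∀ x ∈ (Finset.univ : Finset (ZMod M)).filter (fun x => canon Q M x = c),
      H577.GLB.Std.bsz (t x) = H577.GLB.Std.bsz (t c) := by
    intro x hx
    rw [Finset.mem_filter] at hx
    rw [← hx.2, t_canon t ht]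
  rw [Finset.sum_congr rfl h1, Finset.sum_const, smul_eq_mul]
  congr 1
  symm
  rw [← Finset.card_range (perZ Q M c)]
  symm
  refine Finset.card_bij (fun j _ => (Q : ZMod M) ^ j * c) ?_ ?_ ?_
  · intro j _
    rw [Finset.mem_filter]
    have h1 : canon Q M c = canon Q M ((Q : ZMod M) ^ j * c) := canon_eq_of_same hQ ⟨j, rfl⟩
    exact ⟨Finset.mem_univ _, h1.symm.trans (mem_repsZ.1 hc)⟩
  · intro a ha b hb hab
    rw [Finset.mem_range] at ha hb
    have key : ∀ a b : ℕ, a ≤ b → b < perZ Q M c → (Q : ZMod M) ^ a * c = (Q : ZMod M) ^ b * c → a = b := by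
      intro a b hab hb h
      obtain ⟨w, hw⟩ := hQ.pow a
      have h1 : (Q : ZMod M) ^ b * c = (Q : ZMod M) ^ a * ((Q : ZMod M) ^ (b - a) * c) := by
        rw [← mul_assoc, ← pow_add, Nat.add_sub_cancel' hab]
      rw [h1, ← hw] at h
      have h2 := (Units.mul_right_inj w).1 h
      have h3 := (pow_mul_eq_iff (b - a) c).1 h2.symm
      by_contra hne
      have := Nat.le_of_dvd (by omega) h3
      omega
    rcases le_total a b with h | h
    · exact key a b h hb hab
    · exact (key b a h ha hab.symm).symm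
  · intro x hx
    rw [Finset.mem_filter] at hx
    obtain ⟨j, hj⟩ := (canon_eq_iff hQ (c := c) (c' := x)).1 (by rw [hx.2, mem_repsZ.1 hc])
    refine ⟨j % perZ Q M c, Finset.mem_range.2 (Nat.mod_lt _ (perZ_pos hQ c)), ?_⟩
    rw [hj]
    conv_rhs => rw [← Nat.mod_add_div j (perZ Q M c), pow_add, mul_assoc,
      (pow_mul_eq_iff _ c).2 (dvd_mul_right _ _)]

theorem SchP_mem_Vfam (hQ : IsUnit (Q : ZMod M)) {n : ℕ} (t : LabZ Q M m n) : SchP Q M t.t ∈ Vfam Q M p n t.t := by
  refine Submodule.subset_span ⟨_, _, ⟨fun c _ => sum_eq_bsz (t.mono c), fun _ => rfl, fun δ _ => SameCol.refl _ _, ?_⟩,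
    SchP_eq t.t⟩
  rw [nuP_deg hQ t.t t.orb, t.sum]

/-- **The truncation of a labelled character stays in the span of its family.** -/
theorem tauP_SchP_mem (hQ : IsUnit (Q : ZMod M)) (hp : p.Prime) {n : ℕ} (hn : n ≤ m) (t : LabZ Q M m n) :
    tauP Q M p (SchP Q M t.t) ∈ Vfam Q M p n t.t :=
  tauP_mem_of_stable hQ _ (Vfam_le n t.t) (fun _ hx => Esing_mem hQ hp hn hx) (SchP_mem_Vfam hQ t)

theorem pair_ne_zero {β γ : Fin m → ℕ} (h : pair β γ ≠ 0) : ∃ σ : Equiv.Perm (Fin m), β = γ ∘ σ := by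
  by_contra hne
  push Not at hne
  apply h
  unfold pair
  exact Finset.sum_eq_zero fun σ _ => if_neg (hne σ)

theorem form_Vfam (hQ : IsUnit (Q : ZMod M)) {n n' : ℕ} (t : LabZ Q M m n) (t' : LabZ Q M m n')
    (h : ¬ SameFam Q M p t.t t'.t) {x : RS M} (hx : x ∈ Vfam Q M p n t.t) :
    form Q M x (SchP Q M t'.t) = 0 := by
  induction hx using Submodule.span_induction with
  | zero => exact form_zero_left Q M _
  | add x y _ _ hx hy => rw [form_add_left, hx, hy, add_zero]
  | smul a x _ hx => rw [form_smul_left, hx, mul_zero]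
  | mem x hx =>
    obtain ⟨k, β, hA, rfl⟩ := hx
    rw [SchP_eq, form_prodS hQ (repsZ Q M) (Finset.Subset.refl _) _ _ _ _ _ hA.sum
      (fun c _ => sum_eq_bsz (t'.mono c)) rfl]
    by_contra hne
    have h1 : ∀ c ∈ repsZ Q M, pair (β c) (t'.t c) ≠ 0 := by
      intro c hc h0
      exact hne (Finset.prod_eq_zero hc (by rw [h0]; simp))
    have hk : ∀ c ∈ repsZ Q M, k c = H577.GLB.Std.bsz (t'.t c) := by
      intro c hc
      obtain ⟨σ, hσ⟩ := pair_ne_zero (h1 c hc)
      have h2 := hA.sum c hc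
      rw [hσ] at h2
      have h3 : ∑ i, (t'.t c ∘ σ) i = ∑ i, t'.t c i := Equiv.sum_comp σ (t'.t c)
      rw [h3, sum_eq_bsz (t'.mono c)] at h2
      omega
    apply h
    intro δ _
    constructor
    · rw [sfun_eq_nuP hQ t.t t.orb, sfun_eq_nuP hQ t'.t t'.orb, ← hA.nu δ, nuP, nuP]
      exact Finset.sum_congr rfl fun c hc => by rw [hk c hc]
    · have h2 := hA.col (canon Q M δ) (canon_mem_repsZ hQ δ)
      rw [t_canon t.t t.orb, ← eD_of_same hQ (sameZ_canon δ)] at h2
      obtain ⟨σ, hσ⟩ := pair_ne_zero (h1 _ (canon_mem_repsZ hQ δ))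
      rw [hσ, t_canon t'.t t'.orb] at h2
      exact h2.trans (sameCol_comp _ _ σ)

/-- **(D2)** Truncation does not connect different families. -/
theorem tau_fam (hQ : IsUnit (Q : ZMod M)) (hp : p.Prime) {n n' : ℕ} (hn : n ≤ m) (t : LabZ Q M m n)
    (t' : LabZ Q M m n') (h : ¬ SameFam Q M p t.t t'.t) :
    form Q M (tauP Q M p (SchP Q M t.t)) (SchP Q M t'.t) = 0 :=
  form_Vfam hQ t t' h (tauP_SchP_mem hQ hp hn t)

end Cfsg.Agent.H614.GLn.RSt
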