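import Cfsg.Agent.H614.GLn.RSFam

/-!
# The labelled Schur products span the homogeneous genuine polynomials
-/

set_option autoImplicit false

open scoped ComplexConjugate

namespace Cfsg.Agent.H614.GLn.RSt

open MvPolynomial Cfsg.Agent.H614 Cfsg.Agent.H577.GLB.Std Cfsg.Agent.H614.GLn

variable {Q : ℤ} {M : ℕ} {m : ℕ}

/-- the weight of the variables -/
abbrev wv (M : ℕ) : Var M → ℕ := fun v => v.1

theorem whom_rv (k : ℕ) (c : ZMod M) : IsWeightedHomogeneous (wv M) (rv Q M k c) k := by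
  unfold rv
  split_ifs with h
  · exact isWeightedHomogeneous_X ℂ (wv M) (k, canon Q M c)
  · exact isWeightedHomogeneous_zero ℂ (wv M) k

theorem whom_map_Pw (c : ZMod M) (s : Multiset ℕ) :
    IsWeightedHomogeneous (wv M) ((s.map fun j => Pw Q M j c).prod) (s.sum * perZ Q M c) := by
  induction s using Multiset.induction_on with
  | empty => simpa using isWeightedHomogeneous_one ℂ (wv M)
  | cons a s ih =>
    rw [Multiset.map_cons, Multiset.prod_cons, Multiset.sum_cons, add_mul]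
    exact (whom_rv (a * perZ Q M c) c).mul ih

theorem whom_SS (c : ZMod M) (k : ℕ) (β : Fin m → ℕ) :
    IsWeightedHomogeneous (wv M) (SS (fun j => Pw Q M j c) k β) (k * perZ Q M c) := by
  rw [← mem_weightedHomogeneousSubmodule]
  unfold SS ZV
  refine Submodule.sum_mem _ fun ν _ => Submodule.smul_mem _ _ (Submodule.smul_mem _ _ ?_)
  rw [mem_weightedHomogeneousSubmodule]
  have := whom_map_Pw (Q := Q) c ν.parts
  rwa [ν.parts_sum] at this

variable [NeZero M]

theorem whom_prodS (R : Finset (ZMod M)) (k : ZMod M → ℕ) (β : ZMod M → Fin m → ℕ) :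
    IsWeightedHomogeneous (wv M) (prodS Q M R k β) (∑ c ∈ R, k c * perZ Q M c) :=
  IsWeightedHomogeneous.prod R _ _ fun c _ => whom_SS c (k c) (β c)

/-- the labelled products are homogeneous of the right weight -/
theorem SchP_mem_Hom (hQ : IsUnit (Q : ZMod M)) {n : ℕ} (t : LabZ Q M m n) : SchP Q M t.t ∈ Hom Q M n := by
  refine ⟨?_, ?_⟩
  · rw [SchP_eq]
    exact Subalgebra.prod_mem _ fun c _ => SS_mem_GenR _ c _
  · have h := whom_prodS (Q := Q) (repsZ Q M) (fun c => H577.GLB.Std.bsz (t.t c)) t.t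
    rw [← SchP_eq, Finset.sum_congr rfl fun c _ => mul_comm _ _, nuP_deg hQ t.t t.orb, t.sum] at h
    exact h

/-! ### the span -/

theorem mem_supported_GenVar (hQ : IsUnit (Q : ZMod M)) {x : RS M} (hx : x ∈ GenR Q M) :
    x ∈ supported ℂ {v : Var M | GenVar Q M v} := by
  have h : GenR Q M ≤ supported ℂ {v : Var M | GenVar Q M v} := by
    rw [GenR, Algebra.adjoin_le_iff]
    rintro _ ⟨v, rfl⟩
    show rv Q M v.1 v.2 ∈ supported ℂ {v : Var M | GenVar Q M v}
    by_cases h : 0 < v.1 ∧ TorZ Q M v.1 v.2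
    · rw [rv, if_pos h, X_mem_supported]
      obtain ⟨j, hj⟩ := sameZ_canon (Q := Q) v.2
      refine ⟨h.1, ?_, ?_⟩
      · show ((Q : ZMod M) ^ v.1 - 1) * canon Q M v.2 = 0
        rw [hj, mul_left_comm, h.2, mul_zero]
      · exact canon_canon hQ v.2
    · rw [rv, if_neg h]
      exact Subalgebra.zero_mem _
  exact h hx

/-- the set of the straight Schur functions of size `k` -/
def strS (Q : ℤ) (M : ℕ) (m : ℕ) (c : ZMod M) (k : ℕ) : Set (RS M) :=
  {x | ∃ β : Fin m → ℕ, StrictMono β ∧ ∑ i, β i = k + ∑ i : Fin m, (i : ℕ) ∧ x = SS (fun j => Pw Q M j c) k β}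

theorem map_Pw_mem (c : ZMod M) {s : Multiset ℕ} (hs : ∀ j ∈ s, 0 < j) (hm : s.sum ≤ m) :
    (s.map fun j => Pw Q M j c).prod ∈ Submodule.span ℂ (strS Q M m c s.sum) := by
  let κ : s.sum.Partition := ⟨s, fun {i} hi => hs i hi, rfl⟩
  have h := prod_eq_sum_SS (P := fun j => Pw Q M j c) hm κ
  rw [show κ.parts = s from rfl] at h
  rw [h]
  refine Submodule.sum_mem _ fun ν _ => Submodule.smul_mem _ _ (Submodule.subset_span ?_)
  have h1 : Multiset.card ν.parts ≤ m := card_le_of_partition ν hm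
  exact ⟨betaOf m ν.parts, betaOf_strictMono h1, by rw [sum_betaOf h1, ν.parts_sum], rfl⟩

/-- the part of a monomial with label `c` -/
noncomputable def labPart (Q : ℤ) (M : ℕ) [NeZero M] (s : Var M →₀ ℕ) (c : ZMod M) : Multiset ℕ := by
  classical
  exact ∑ v ∈ s.support.filter (fun v => v.2 = c), s v • {v.1 / perZ Q M c}

theorem labPart_pos (hQ : IsUnit (Q : ZMod M)) {s : Var M →₀ ℕ} (hs : ∀ v ∈ s.support, GenVar Q M v) (c : ZMod M) :
    ∀ j ∈ labPart Q M s c, 0 < j := by
  classical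
  intro j hj
  unfold labPart at hj
  rw [Multiset.mem_sum] at hj
  obtain ⟨v, hv, hj⟩ := hj
  rw [Finset.mem_filter] at hv
  have h1 := Multiset.mem_of_mem_nsmul hj
  rw [Multiset.mem_singleton] at h1
  have h2 := hs v hv.1
  have h3 : perZ Q M v.2 ∣ v.1 := (torZ_iff v.1 v.2).1 h2.2.1
  rw [h1, ← hv.2]
  exact Nat.div_pos (Nat.le_of_dvd h2.1 h3) (perZ_pos hQ v.2)

theorem labPart_sum {s : Var M →₀ ℕ} (hs : ∀ v ∈ s.support, GenVar Q M v) (c : ZMod M) :
    (labPart Q M s c).sum * perZ Q M c = ∑ v ∈ s.support with v.2 = c, s v * v.1 := by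
  classical
  unfold labPart
  rw [Multiset.sum_sum, Finset.sum_mul]
  refine Finset.sum_congr (by congr) fun v hv => ?_
  rw [Finset.mem_filter] at hv
  have h3 : perZ Q M v.2 ∣ v.1 := (torZ_iff v.1 v.2).1 (hs v hv.1).2.1
  rw [Multiset.sum_nsmul, Multiset.sum_singleton, smul_eq_mul, mul_assoc, ← hv.2, Nat.div_mul_cancel h3]

theorem labPart_prod (hQ : IsUnit (Q : ZMod M)) {s : Var M →₀ ℕ} (hs : ∀ v ∈ s.support, GenVar Q M v) (c : ZMod M) :
    ((labPart Q M s c).map fun j => Pw Q M j c).prod = ∏ v ∈ s.support with v.2 = c, (X v : RS M) ^ s v := by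
  classical
  unfold labPart
  have h0 := map_sum (Multiset.mapAddMonoidHom fun j => Pw Q M j c)
    (fun v : Var M => s v • ({v.1 / perZ Q M c} : Multiset ℕ)) (s.support.filter fun v => v.2 = c)
  rw [Multiset.coe_mapAddMonoidHom] at h0
  rw [h0, Multiset.prod_sum]
  refine Finset.prod_congr (by congr) fun v hv => ?_
  rw [Finset.mem_filter] at hv
  have h2 := hs v hv.1
  have h3 : perZ Q M v.2 ∣ v.1 := (torZ_iff v.1 v.2).1 h2.2.1
  rw [Multiset.map_nsmul, Multiset.prod_nsmul, Multiset.map_singleton, Multiset.prod_singleton, ← hv.2,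
    Pw_eq hQ (mem_repsZ.2 h2.2.2) (Nat.div_pos (Nat.le_of_dvd h2.1 h3) (perZ_pos hQ v.2)), Nat.div_mul_cancel h3]

/-- **The labelled products span.** -/
theorem monomial_mem (hQ : IsUnit (Q : ZMod M)) {n : ℕ} (hn : n ≤ m) {s : Var M →₀ ℕ}
    (hs : ∀ v ∈ s.support, GenVar Q M v) (hw : Finsupp.weight (wv M) s = n) :
    (monomial s (1 : ℂ) : RS M) ∈ Submodule.span ℂ (Set.range fun t : LabZ Q M m n => SchP Q M t.t) := by
  classical
  have hw' : ∑ v ∈ s.support, s v * v.1 = n := by
    rw [← hw, Finsupp.weight_apply, Finsupp.sum]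
    rfl
  have hfib : ∀ v ∈ s.support, v.2 ∈ repsZ Q M := fun v hv => mem_repsZ.2 (hs v hv).2.2
  have hk : ∑ c ∈ repsZ Q M, (labPart Q M s c).sum * perZ Q M c = n := by
    rw [← hw', ← Finset.sum_fiberwise_of_maps_to hfib]
    exact Finset.sum_congr rfl fun c _ => labPart_sum hs c
  have h1 : (monomial s (1 : ℂ) : RS M) = ∏ c ∈ repsZ Q M, ((labPart Q M s c).map fun j => Pw Q M j c).prod := by
    rw [monomial_eq, C_1, one_mul, Finsupp.prod, ← Finset.prod_fiberwise_of_maps_to hfib]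
    exact Finset.prod_congr rfl fun c _ => (labPart_prod hQ hs c).symm
  have hle : ∀ c ∈ repsZ Q M, (labPart Q M s c).sum ≤ m := by
    intro c hc
    refine le_trans ?_ hn
    rw [← hk]
    refine le_trans (Nat.le_mul_of_pos_right _ (perZ_pos hQ c)) ?_
    exact Finset.single_le_sum (f := fun c => (labPart Q M s c).sum * perZ Q M c) (fun _ _ => Nat.zero_le _) hc
  have h2 : (∏ c ∈ repsZ Q M, ((labPart Q M s c).map fun j => Pw Q M j c).prod) ∈
      ∏ c ∈ repsZ Q M, Submodule.span ℂ (strS Q M m c (labPart Q M s c).sum) := by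
    have h3 : ∀ R : Finset (ZMod M), R ⊆ repsZ Q M → (∏ c ∈ R, ((labPart Q M s c).map fun j => Pw Q M j c).prod) ∈
        ∏ c ∈ R, Submodule.span ℂ (strS Q M m c (labPart Q M s c).sum) := by
      intro R
      induction R using Finset.induction_on with
      | empty =>
        intro _
        rw [Finset.prod_empty, Finset.prod_empty]
        exact Submodule.one_le.1 le_rfl
      | insert a R ha ih =>
        intro hR
        rw [Finset.prod_insert ha, Finset.prod_insert ha]
        exact Submodule.mul_mem_mul (map_Pw_mem a (labPart_pos hQ hs a) (hle a (hR (Finset.mem_insert_self _ _))))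
          (ih fun c hc => hR (Finset.mem_insert_of_mem hc))
    exact h3 _ (Finset.Subset.refl _)
  rw [h1]
  rw [Submodule.prod_span] at h2
  refine Submodule.span_mono ?_ h2
  intro x hx
  rw [Set.mem_finsetProd] at hx
  obtain ⟨g, hg, rfl⟩ := hx
  choose! β hβ using fun c (hc : c ∈ repsZ Q M) => hg hc
  have hcan : ∀ c, canon Q M c ∈ repsZ Q M := canon_mem_repsZ hQ
  have hsz : ∀ c ∈ repsZ Q M, H577.GLB.Std.bsz (β c) = (labPart Q M s c).sum := by
    intro c hc
    have h3 := (hβ c hc).2.1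
    rw [H577.GLB.Std.bsz, h3, Nat.add_sub_cancel]
  let t : LabZ Q M m n :=
    { t := fun c => β (canon Q M c)
      mono := fun c => (hβ _ (hcan c)).1
      orb := fun c => by
        show β (canon Q M ((Q : ZMod M) * c)) = β (canon Q M c)
        rw [canon_eq_of_same hQ (c := c) (c' := (Q : ZMod M) * c) ⟨1, by rw [pow_one]⟩]
      sum := by
        rw [← nuP_deg hQ (fun c => β (canon Q M c)), ← hk]
        · refine Finset.sum_congr rfl fun c hc => ?_
          rw [mem_repsZ.1 hc, hsz c hc, mul_comm]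
        · intro c
          show β (canon Q M ((Q : ZMod M) * c)) = β (canon Q M c)
          rw [canon_eq_of_same hQ (c := c) (c' := (Q : ZMod M) * c) ⟨1, by rw [pow_one]⟩] }
  refine ⟨t, ?_⟩
  show SchP Q M t.t = _
  rw [SchP_eq]
  unfold prodS
  refine Finset.prod_congr rfl fun c hc => ?_
  show SS (fun j => Pw Q M j c) (H577.GLB.Std.bsz (β (canon Q M c))) (β (canon Q M c)) = g c
  rw [mem_repsZ.1 hc, hsz c hc, ← (hβ c hc).2.2]

theorem Hom_le_span (hQ : IsUnit (Q : ZMod M)) {n : ℕ} (hn : n ≤ m) :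
    Hom Q M n ≤ Submodule.span ℂ (Set.range fun t : LabZ Q M m n => SchP Q M t.t) := by
  classical
  intro x hx
  rw [x.as_sum]
  refine Submodule.sum_mem _ fun s hs => ?_
  have h1 : (monomial s (x.coeff s) : RS M) = x.coeff s • monomial s 1 := by
    rw [smul_monomial, smul_eq_mul, mul_one]
  rw [h1]
  refine Submodule.smul_mem _ _ (monomial_mem hQ hn ?_ ?_)
  · intro v hv
    have h2 := mem_supported_GenVar hQ hx.1
    rw [mem_supported] at h2
    exact h2 (Finset.mem_coe.2 ((mem_vars_iff_mem_support v).2 ⟨s, hs, hv⟩))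
  · exact (mem_weightedHomogeneousSubmodule ℂ _ n x).1 hx.2 (mem_support_iff.1 hs)

end Cfsg.Agent.H614.GLn.RSt
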