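import Cfsg.Agent.H614.GLn.RSOrtho

/-!
# Truncation in the standard model: values on the variables, the singular derivation
-/

set_option autoImplicit false

namespace Cfsg.Agent.H614.GLn.RSt

open MvPolynomial Cfsg.Agent.H614 Cfsg.Agent.H577.GLB.Std Cfsg.Agent.H614.GLn

section gen

variable {m : ℕ} {A : Type*} [CommRing A] [Algebra ℂ A] (P : ℕ → A)

theorem D_prod_gen (E : Derivation ℂ A A) {k : ℕ} (s : Multiset ℕ) (hs : ∀ i ∈ s, i ∈ Finset.Icc 1 k) :
    E (s.map P).prod = ∑ r ∈ Finset.Icc 1 k, ((s.count r : ℕ) : ℂ) • (E (P r) * ((s.erase r).map P).prod) := by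
  induction s using Multiset.induction_on with
  | empty => simp
  | cons a s ih =>
    have ha : a ∈ Finset.Icc 1 k := hs a (Multiset.mem_cons_self a s)
    rw [Multiset.map_cons, Multiset.prod_cons, Derivation.leibniz, ih fun i hi => hs i (Multiset.mem_cons_of_mem hi),
      smul_eq_mul, smul_eq_mul, Finset.mul_sum, mul_comm (s.map P).prod (E (P a))]
    have h1 : ∀ r ∈ Finset.Icc 1 k, (((a ::ₘ s).count r : ℕ) : ℂ) • (E (P r) * (((a ::ₘ s).erase r).map P).prod) =
        P a * (((s.count r : ℕ) : ℂ) • (E (P r) * ((s.erase r).map P).prod)) +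
          (if r = a then E (P a) * (s.map P).prod else 0) := by
      intro r _
      by_cases h : r = a
      · subst h
        rw [if_pos rfl, Multiset.count_cons_self, Multiset.erase_cons_head]
        by_cases hr : r ∈ s
        · have h2 : P r * ((s.erase r).map P).prod = (s.map P).prod := by
            rw [← Multiset.prod_cons, ← Multiset.map_cons, Multiset.cons_erase hr]
          rw [mul_smul_comm, mul_left_comm, h2]
          push_cast
          rw [add_smul, one_smul]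
        · rw [Multiset.count_eq_zero.mpr hr]
          simp
      · rw [if_neg h, Multiset.count_cons_of_ne h, add_zero, Multiset.erase_cons_tail _ (by simpa using Ne.symm h),
          Multiset.map_cons, Multiset.prod_cons, mul_smul_comm, mul_left_comm]
    rw [Finset.sum_congr rfl h1, Finset.sum_add_distrib, Finset.sum_ite_eq' , if_pos ha]

theorem E_SS (E : Derivation ℂ A A) (k : ℕ) (β : Fin m → ℕ) :
    E (SS P k β) = ∑ r ∈ Finset.Icc 1 k, (r : ℂ)⁻¹ • (E (P r) *
      ∑ j, (if r ≤ β j then SS P (k - r) (dn β j r) else 0)) := by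
  have h0 : E (SS P k β) = ∑ r ∈ Finset.Icc 1 k, ZV k (fun s => ((s.count r : ℕ) : ℂ) •
      ((FM s β : ℂ) • (E (P r) * ((s.erase r).map P).prod))) := by
    rw [← ZV_finsum, SS, show E (ZV k fun s => (FM s β : ℂ) • (s.map P).prod) = (E : A →ₗ[ℂ] A) (ZV k fun s =>
      (FM s β : ℂ) • (s.map P).prod) from rfl, ZV_map]
    refine ZV_congr fun s hs hpos => ?_
    rw [map_smul, Derivation.coeFn_coe, D_prod_gen P E (k := k) s, Finset.smul_sum]
    · exact Finset.sum_congr rfl fun r _ => smul_comm _ _ _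
    · intro i hi
      exact Finset.mem_Icc.2 ⟨hpos i hi, hs ▸ Multiset.le_sum_of_mem hi⟩
  rw [h0]
  refine Finset.sum_congr rfl fun r hr => ?_
  rw [Finset.mem_Icc] at hr
  have hr0 : (r : ℂ) ≠ 0 := by exact_mod_cast (by omega : r ≠ 0)
  have h1 : ZV k (fun s => ((s.count r : ℕ) : ℂ) • ((FM s β : ℂ) • (E (P r) * ((s.erase r).map P).prod))) =
      (r : ℂ)⁻¹ • ZV k (fun s => ((r * s.count r : ℕ) : ℂ) • ((FM s β : ℂ) • (E (P r) * ((s.erase r).map P).prod))) := by
    rw [← ZV_smul]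
    refine ZV_congr fun s _ _ => ?_
    rw [smul_smul (r : ℂ)⁻¹]
    congr 1
    push_cast
    rw [inv_mul_cancel_left₀ hr0]
  rw [h1, ZV_mark hr.1 hr.2]
  congr 1
  have h : ∀ j, E (P r) * (if r ≤ β j then SS P (k - r) (dn β j r) else 0) =
      ZV (k - r) (fun s => (if r ≤ β j then (FM s (dn β j r) : ℂ) else 0) • (E (P r) * (s.map P).prod)) := by
    intro j
    by_cases hj : r ≤ β j
    · have h1 := ZV_map (LinearMap.mulLeft ℂ (E (P r))) (k - r) (fun s => (FM s (dn β j r) : ℂ) • (s.map P).prod)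
      rw [LinearMap.mulLeft_apply] at h1
      rw [if_pos hj, SS, h1]
      refine ZV_congr fun s _ _ => ?_
      rw [if_pos hj, map_smul]; rfl
    · rw [if_neg hj, mul_zero]
      simp only [if_neg hj, zero_smul]
      exact (ZV_zero _).symm
  rw [Finset.mul_sum, Finset.sum_congr rfl fun j _ => h j, ← ZV_finsum]
  refine ZV_congr fun s _ _ => ?_
  rw [Multiset.erase_cons_head, FM_cons, ← Finset.sum_smul]
  congr 1
  push_cast
  rfl

end gen

variable {Q : ℤ} {M : ℕ} [NeZero M] {p : ℕ}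

theorem torZ_mul (k : ℕ) {c : ZMod M} (h : TorZ Q M k c) (j : ℕ) : TorZ Q M k ((Q : ZMod M) ^ j * c) := by
  unfold TorZ at h ⊢
  rw [mul_left_comm, h, mul_zero]

theorem torZ_add (k : ℕ) {c c' : ZMod M} (h : TorZ Q M k c) (h' : TorZ Q M k c') : TorZ Q M k (c + c') := by
  unfold TorZ at h h' ⊢
  rw [mul_add, h, h', add_zero]

theorem torZ_sub (k : ℕ) {c c' : ZMod M} (h : TorZ Q M k c) (h' : TorZ Q M k c') : TorZ Q M k (c - c') := by
  unfold TorZ at h h' ⊢
  rw [mul_sub, h, h', sub_zero]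

theorem rv_same (hQ : IsUnit (Q : ZMod M)) (k : ℕ) {c c' : ZMod M} (h : SameZ Q M c c') :
    rv Q M k c = rv Q M k c' := by
  have h1 : TorZ Q M k c ↔ TorZ Q M k c' := by rw [torZ_iff, torZ_iff, perZ_of_same hQ h]
  rw [rv, rv, canon_eq_of_same hQ h]
  by_cases h2 : 0 < k ∧ TorZ Q M k c
  · rw [if_pos h2, if_pos ⟨h2.1, h1.1 h2.2⟩]
  · rw [if_neg h2, if_neg (fun h3 => h2 ⟨h3.1, h1.2 h3.2⟩)]

theorem rv_pow_mul (hQ : IsUnit (Q : ZMod M)) (k : ℕ) (c : ZMod M) (j : ℕ) :
    rv Q M k ((Q : ZMod M) ^ j * c) = rv Q M k c := (rv_same hQ k ⟨j, rfl⟩).symm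

theorem mem_Eta {k : ℕ} {η : ZMod M} : η ∈ Eta Q M p k ↔ TorZ Q M k η ∧ ∃ j : ℕ, (p : ZMod M) ^ j * η = 0 := by
  classical
  rw [Eta, Finset.mem_filter]; simp

theorem zero_mem_Eta (k : ℕ) : (0 : ZMod M) ∈ Eta Q M p k := by
  rw [mem_Eta]; exact ⟨by unfold TorZ; simp, 0, by simp⟩

theorem Eta_card_pos (k : ℕ) : 0 < (Eta Q M p k).card := Finset.card_pos.2 ⟨0, zero_mem_Eta k⟩

theorem Eta_mul {k : ℕ} {η : ZMod M} (h : η ∈ Eta Q M p k) (j : ℕ) : (Q : ZMod M) ^ j * η ∈ Eta Q M p k := by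
  rw [mem_Eta] at h ⊢
  obtain ⟨h1, i, h2⟩ := h
  exact ⟨torZ_mul k h1 j, i, by rw [mul_left_comm, h2, mul_zero]⟩

theorem Eta_add {k : ℕ} {η η' : ZMod M} (h : η ∈ Eta Q M p k) (h' : η' ∈ Eta Q M p k) : η + η' ∈ Eta Q M p k := by
  rw [mem_Eta] at h h' ⊢
  obtain ⟨h1, i, h2⟩ := h
  obtain ⟨h1', i', h2'⟩ := h'
  refine ⟨torZ_add k h1 h1', i + i', ?_⟩
  rw [mul_add, pow_add]
  have e1 : (p : ZMod M) ^ i * (p : ZMod M) ^ i' * η = (p : ZMod M) ^ i' * ((p : ZMod M) ^ i * η) := by ring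
  have e2 : (p : ZMod M) ^ i * (p : ZMod M) ^ i' * η' = (p : ZMod M) ^ i * ((p : ZMod M) ^ i' * η') := by ring
  rw [e1, e2, h2, h2', mul_zero, mul_zero, add_zero]

theorem Eta_neg {k : ℕ} {η : ZMod M} (h : η ∈ Eta Q M p k) : -η ∈ Eta Q M p k := by
  rw [mem_Eta] at h ⊢
  obtain ⟨h1, i, h2⟩ := h
  refine ⟨?_, i, by rw [mul_neg, h2, neg_zero]⟩
  unfold TorZ at h1 ⊢
  rw [mul_neg, h1, neg_zero]

/-- the truncation of a variable -/
theorem tauP_rv (hQ : IsUnit (Q : ZMod M)) {k : ℕ} (hk : 0 < k) {c : ZMod M} (hc : TorZ Q M k c) :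
    tauP Q M p (rv Q M k c) = ((Eta Q M p k).card : ℂ)⁻¹ • ∑ η ∈ Eta Q M p k, rv Q M k (c + η) := by
  rw [rv, if_pos ⟨hk, hc⟩, tauP, aeval_X]
  dsimp only
  congr 1
  obtain ⟨j, hj⟩ := sameZ_canon (Q := Q) c
  have h1 : ∑ η ∈ Eta Q M p k, rv Q M k (c + η) = ∑ η ∈ Eta Q M p k, rv Q M k (canon Q M c + (Q : ZMod M) ^ j * η) := by
    refine Finset.sum_congr rfl fun η _ => ?_
    rw [hj, ← mul_add, rv_pow_mul hQ]
  rw [h1]
  obtain ⟨w, hw⟩ := hQ.pow j
  refine (Finset.sum_bij (fun η _ => (Q : ZMod M) ^ j * η) (fun η h => Eta_mul h j) ?_ ?_ (fun _ _ => rfl)).symm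
  · intro a _ b _ hab
    rw [← hw] at hab
    exact (Units.mul_right_inj w).1 hab
  · intro b hb
    obtain ⟨N, hN, hN1⟩ := exists_pow_eq_one hQ
    refine ⟨(Q : ZMod M) ^ (N * j - j) * b, Eta_mul hb _, ?_⟩
    rw [← mul_assoc, ← pow_add, Nat.add_sub_cancel' (Nat.le_mul_of_pos_left j hN), pow_mul, hN1, one_pow, one_mul]

theorem tauP_rv_add (hQ : IsUnit (Q : ZMod M)) {k : ℕ} (hk : 0 < k) {c η : ZMod M} (hc : TorZ Q M k c)
    (hη : η ∈ Eta Q M p k) : tauP Q M p (rv Q M k (c + η)) = tauP Q M p (rv Q M k c) := by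
  rw [tauP_rv hQ hk hc, tauP_rv hQ hk (torZ_add k hc (mem_Eta.1 hη).1)]
  congr 1
  refine Finset.sum_bij (fun x _ => η + x) (fun x h => Eta_add hη h) (fun a _ b _ h => add_left_cancel h) ?_ ?_
  · intro b hb
    exact ⟨b - η, by rw [sub_eq_add_neg]; exact Eta_add hb (Eta_neg hη), by ring⟩
  · intro a _
    rw [add_assoc]

theorem tauP_tauP_rv (hQ : IsUnit (Q : ZMod M)) {k : ℕ} (hk : 0 < k) {c : ZMod M} (hc : TorZ Q M k c) :
    tauP Q M p (tauP Q M p (rv Q M k c)) = tauP Q M p (rv Q M k c) := by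
  have h1 := congrArg (tauP Q M p) (tauP_rv (p := p) hQ hk hc)
  rw [h1, map_smul, map_sum, Finset.sum_congr rfl fun η hη => tauP_rv_add hQ hk hc hη, Finset.sum_const,
    ← Nat.cast_smul_eq_nsmul ℂ, smul_smul, inv_mul_cancel₀, one_smul]
  exact_mod_cast (Eta_card_pos k).ne'

/-- pointwise multiplication by the dimension of the singular part -/
noncomputable def Esing (Q : ℤ) (M : ℕ) [NeZero M] (p : ℕ) : Derivation ℂ (RS M) (RS M) :=
  mkDerivation ℂ fun v => (v.1 : ℂ) • (X v - tauP Q M p (X v))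

theorem Esing_rv (k : ℕ) (c : ZMod M) :
    Esing Q M p (rv Q M k c) = (k : ℂ) • (rv Q M k c - tauP Q M p (rv Q M k c)) := by
  rw [rv]
  split_ifs with h
  · rw [Esing, mkDerivation_X]
  · simp

theorem Esing_tauP_rv (hQ : IsUnit (Q : ZMod M)) {k : ℕ} (hk : 0 < k) {c : ZMod M} (hc : TorZ Q M k c) :
    Esing Q M p (tauP Q M p (rv Q M k c)) = 0 := by
  have h1 := tauP_tauP_rv (p := p) hQ hk hc
  have h2 : Esing Q M p (tauP Q M p (rv Q M k c)) =
      (k : ℂ) • (tauP Q M p (rv Q M k c) - tauP Q M p (tauP Q M p (rv Q M k c))) := by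
    have h3 := congrArg (Esing Q M p) (tauP_rv (p := p) hQ hk hc)
    have h4 := congrArg (tauP Q M p) (tauP_rv (p := p) hQ hk hc)
    rw [h3, Derivation.map_smul, map_sum, Finset.sum_congr rfl fun η _ => Esing_rv (p := p) k (c + η),
      ← Finset.smul_sum, Finset.sum_sub_distrib, smul_comm, smul_sub, ← tauP_rv hQ hk hc, h4, map_smul, map_sum]
  rw [h2, h1, sub_self, smul_zero]

/-- the eigenspaces of the singular derivation -/
noncomputable def Wsing (Q : ℤ) (M : ℕ) [NeZero M] (p : ℕ) (w : ℕ) : Submodule ℂ (RS M) where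
  carrier := {x | Esing Q M p x = (w : ℂ) • x ∧ tauP Q M p x = if w = 0 then x else 0}
  add_mem' := by
    rintro a b ⟨h1, h2⟩ ⟨h3, h4⟩
    refine ⟨by rw [map_add, h1, h3, smul_add], ?_⟩
    rw [map_add, h2, h4]
    split_ifs <;> simp
  zero_mem' := by
    refine ⟨by simp, ?_⟩
    rw [map_zero]; split_ifs <;> rfl
  smul_mem' := by
    rintro c a ⟨h1, h2⟩
    refine ⟨by rw [Derivation.map_smul, h1, smul_comm], ?_⟩
    rw [map_smul, h2]
    split_ifs <;> simp

theorem mem_Wsing {w : ℕ} {x : RS M} : x ∈ Wsing Q M p w ↔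
    Esing Q M p x = (w : ℂ) • x ∧ tauP Q M p x = if w = 0 then x else 0 := Iff.rfl

theorem Wsing_mul {v w : ℕ} {x y : RS M} (hx : x ∈ Wsing Q M p v) (hy : y ∈ Wsing Q M p w) :
    x * y ∈ Wsing Q M p (v + w) := by
  rw [mem_Wsing] at hx hy ⊢
  refine ⟨?_, ?_⟩
  · rw [Derivation.leibniz, hx.1, hy.1, smul_eq_mul, smul_eq_mul, mul_smul_comm, mul_smul_comm, mul_comm y x,
      ← add_smul]
    push_cast
    rw [add_comm]
  · rw [map_mul, hx.2, hy.2]
    by_cases hv : v = 0 <;> by_cases hw : w = 0 <;> simp [hv, hw]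

/-- the sum of the eigenspaces as a subalgebra -/
noncomputable def Ssing (Q : ℤ) (M : ℕ) [NeZero M] (p : ℕ) : Subalgebra ℂ (RS M) where
  carrier := {x | ∃ N : ℕ, ∃ f : ℕ → RS M, (∀ w, f w ∈ Wsing Q M p w) ∧ x = ∑ w ∈ Finset.range N, f w}
  add_mem' := by
    rintro a b ⟨N, f, hf, rfl⟩ ⟨N', f', hf', rfl⟩
    refine ⟨max N N', fun w => (if w < N then f w else 0) + (if w < N' then f' w else 0), ?_, ?_⟩
    · intro w
      refine Submodule.add_mem _ ?_ ?_
      · split_ifs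
        · exact hf w
        · exact Submodule.zero_mem _
      · split_ifs
        · exact hf' w
        · exact Submodule.zero_mem _
    · rw [Finset.sum_add_distrib]
      congr 1
      · rw [← Finset.sum_filter]
        refine Finset.sum_congr ?_ fun _ _ => rfl
        ext w; simp; omega
      · rw [← Finset.sum_filter]
        refine Finset.sum_congr ?_ fun _ _ => rfl
        ext w; simp; omega
  mul_mem' := by
    rintro a b ⟨N, f, hf, rfl⟩ ⟨N', f', hf', rfl⟩
    refine ⟨N + N', fun u => ∑ x ∈ (Finset.range N ×ˢ Finset.range N').filter (fun x => x.1 + x.2 = u),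
      f x.1 * f' x.2, ?_, ?_⟩
    · intro u
      refine Submodule.sum_mem _ fun x hx => ?_
      rw [← (Finset.mem_filter.1 hx).2]
      exact Wsing_mul (hf _) (hf' _)
    · rw [Finset.sum_mul_sum, ← Finset.sum_product', ← Finset.sum_fiberwise_of_maps_to (g := fun x : ℕ × ℕ => x.1 + x.2)
        (t := Finset.range (N + N'))]
      intro x hx
      rw [Finset.mem_product, Finset.mem_range, Finset.mem_range] at hx
      rw [Finset.mem_range]; omega
  algebraMap_mem' := by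
    intro r
    refine ⟨1, fun w => if w = 0 then algebraMap ℂ (RS M) r else 0, ?_, by simp⟩
    intro w
    by_cases hw : w = 0
    · subst hw
      rw [mem_Wsing]; simp
    · simp only [if_neg hw]; exact Submodule.zero_mem _

theorem rv_mem_Ssing (hQ : IsUnit (Q : ZMod M)) (k : ℕ) (c : ZMod M) : rv Q M k c ∈ Ssing Q M p := by
  by_cases h : 0 < k ∧ TorZ Q M k c
  · refine ⟨k + 1, fun w => if w = 0 then tauP Q M p (rv Q M k c) else
      if w = k then rv Q M k c - tauP Q M p (rv Q M k c) else 0, ?_, ?_⟩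
    · intro w
      by_cases hw : w = 0
      · subst hw
        simp only [if_pos]
        rw [mem_Wsing]
        exact ⟨by rw [Esing_tauP_rv hQ h.1 h.2]; simp, by rw [if_pos rfl, tauP_tauP_rv hQ h.1 h.2]⟩
      · simp only [if_neg hw]
        by_cases hwk : w = k
        · subst hwk
          rw [if_pos rfl, mem_Wsing, map_sub, map_sub, Esing_rv, Esing_tauP_rv hQ h.1 h.2, tauP_tauP_rv hQ h.1 h.2,
            sub_zero, sub_self, if_neg hw]
          exact ⟨rfl, rfl⟩
        · rw [if_neg hwk]; exact Submodule.zero_mem _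
    · rw [Finset.sum_range_succ', Finset.sum_eq_single (k - 1)]
      · rw [if_pos rfl, if_neg (by omega), if_pos (by omega), sub_add_cancel]
      · intro b _ hb
        rw [if_neg (by omega), if_neg (by omega)]
      · intro hb
        exfalso
        apply hb
        rw [Finset.mem_range]; omega
  · rw [rv, if_neg h]; exact Subalgebra.zero_mem _

theorem GenR_le_Ssing (hQ : IsUnit (Q : ZMod M)) : GenR Q M ≤ Ssing Q M p := by
  rw [GenR]
  refine Algebra.adjoin_le ?_
  rintro _ ⟨v, rfl⟩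
  exact rv_mem_Ssing hQ v.1 v.2

/-- **A subspace stable under the singular derivation is stable under truncation.** -/
theorem tauP_mem_of_stable (hQ : IsUnit (Q : ZMod M)) (V : Submodule ℂ (RS M)) (hV : V ≤ (GenR Q M).toSubmodule)
    (hE : ∀ x ∈ V, Esing Q M p x ∈ V) {x : RS M} (hx : x ∈ V) : tauP Q M p x ∈ V := by
  obtain ⟨N, f, hf, hxf⟩ := GenR_le_Ssing (p := p) hQ (hV hx)
  have hlag : ∀ (L : Finset ℕ), 0 ∉ L → (∑ w ∈ Finset.range N, (∏ v ∈ L, (1 - (w : ℂ) * (v : ℂ)⁻¹)) • f w) ∈ V := by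
    intro L
    induction L using Finset.induction_on with
    | empty => intro _; simpa [← hxf] using hx
    | insert a L ha ih =>
      intro h0
      have h1 := ih fun h => h0 (Finset.mem_insert_of_mem h)
      have h2 := V.sub_mem h1 (V.smul_mem ((a : ℂ)⁻¹) (hE _ h1))
      have h3 : (∑ w ∈ Finset.range N, (∏ v ∈ L, (1 - (w : ℂ) * (v : ℂ)⁻¹)) • f w) - (a : ℂ)⁻¹ •
          Esing Q M p (∑ w ∈ Finset.range N, (∏ v ∈ L, (1 - (w : ℂ) * (v : ℂ)⁻¹)) • f w) =
          ∑ w ∈ Finset.range N, (∏ v ∈ insert a L, (1 - (w : ℂ) * (v : ℂ)⁻¹)) • f w := by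
        rw [map_sum, Finset.smul_sum, ← Finset.sum_sub_distrib]
        refine Finset.sum_congr rfl fun w _ => ?_
        rw [Derivation.map_smul, (mem_Wsing.1 (hf w)).1, Finset.prod_insert ha, smul_smul, smul_smul, ← sub_smul]
        congr 1
        ring
      rwa [h3] at h2
  have h1 := hlag (Finset.Icc 1 N) (by simp)
  have h2 : ∑ w ∈ Finset.range N, (∏ v ∈ Finset.Icc 1 N, (1 - (w : ℂ) * (v : ℂ)⁻¹)) • f w = tauP Q M p x := by
    rw [hxf, map_sum]
    refine Finset.sum_congr rfl fun w hw => ?_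
    rw [(mem_Wsing.1 (hf w)).2]
    by_cases h0 : w = 0
    · subst h0; simp
    · rw [if_neg h0, Finset.prod_eq_zero (i := w), zero_smul]
      · rw [Finset.mem_Icc]
        rw [Finset.mem_range] at hw
        omega
      · have : (w : ℂ) ≠ 0 := by exact_mod_cast h0
        rw [mul_inv_cancel₀ this, sub_self]
  rwa [h2] at h1

end Cfsg.Agent.H614.GLn.RSt
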