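import Cfsg.Agent.H614.GLn.IrrLab
import Cfsg.Agent.H421.GLn.NeckRS

/-!
# Labels of irreducible characters, abstract version (for `S4536` and `S4537`)

`AbsR Q M N G om` : `om n : RS M →ₗ[ℂ] (G n → ℂ)`, `n ≤ N`, is a realization of the standard model in the class
functions of the finite groups `G n`: isometric, multiplication by the exterior powers `En` preserves generalized
characters, and `[g = 1]` is in the image.  `AbsR.bij` : the labels classify the irreducible characters of `G n`.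
-/

set_option autoImplicit false

open scoped ComplexConjugate

namespace Cfsg.Agent.H614.GLn.RSt

open MvPolynomial Cfsg Cfsg.Agent Cfsg.Agent.H614 Cfsg.Agent.H577.GLB.Std Cfsg.Agent.H614.GLn
open Cfsg.Agent.OddOrderCharacters.VChar

universe u

/-- an abstract realization of the standard model -/
structure AbsR (Q : ℤ) (M N : ℕ) [NeZero M] (G : ℕ → Type u) [∀ n, Group (G n)]
    (om : ∀ n, RS M →ₗ[ℂ] (G n → ℂ)) : Prop where
  unit : IsUnit (Q : ZMod M)
  dvd : ∀ k, 0 < k → k ≤ N → Q ^ k - 1 ∣ (M : ℤ)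
  one : ∀ n ≤ N, IsGeneralizedCharacter (G n) (om n 1)
  ext : ∀ y : RS M, (∀ n ≤ N, IsGeneralizedCharacter (G n) (om n y)) → ∀ (r k : ℕ) (x : ℤ), r ≤ N →
    ∀ n ≤ N, IsGeneralizedCharacter (G n) (om n (H421.GLn.En Q M r k x * y))
  iso : ∀ n ≤ N, ∀ [Fintype (G n)], ∀ x ∈ Hom Q M n, ∀ y ∈ Hom Q M n,
    classInner (om n x) (om n y) = form Q M x y
  del : ∀ n ≤ N, ∃ x ∈ Hom Q M n, om n x 1 ≠ 0 ∧ ∀ g : G n, g ≠ 1 → om n x g = 0

namespace AbsR

variable {Q : ℤ} {M N : ℕ} [NeZero M] {G : ℕ → Type u} [∀ n, Group (G n)] [∀ n, Finite (G n)]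
  {om : ∀ n, RS M →ₗ[ℂ] (G n → ℂ)} {m : ℕ}

/-- the multipliers of the generalized characters -/
def mulRing (N : ℕ) (om : ∀ n, RS M →ₗ[ℂ] (G n → ℂ)) : Subring (RS M) where
  carrier := {x | ∀ y : RS M, (∀ n ≤ N, IsGeneralizedCharacter (G n) (om n y)) →
    ∀ n ≤ N, IsGeneralizedCharacter (G n) (om n (x * y))}
  mul_mem' := fun {a b} ha hb y hy n hn => by
    rw [mul_assoc]
    exact ha (b * y) (hb y hy) n hn
  one_mem' := fun y hy n hn => by rw [one_mul]; exact hy n hn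
  add_mem' := fun {a b} ha hb y hy n hn => by
    rw [add_mul, map_add]
    exact gen_add (ha y hy n hn) (hb y hy n hn)
  zero_mem' := fun y hy n hn => by
    rw [zero_mul, map_zero]
    exact gen_zero
  neg_mem' := fun {a} ha y hy n hn => by
    rw [neg_mul, map_neg]
    exact gen_neg (ha y hy n hn)

omit [∀ n, Finite (G n)] in
theorem SchP_mem (R : AbsR Q M N G om) {n : ℕ} (hn : n ≤ N) (t : LabZ Q M m n) :
    SchP Q M t.t ∈ mulRing N om := by
  rw [SchP_eq]
  unfold prodS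
  refine Subring.prod_mem _ fun c hc => ?_
  have h1 := nuP_deg R.unit t.t t.orb
  rw [t.sum] at h1
  have h2 := Finset.single_le_sum (f := fun c => perZ Q M c * H577.GLB.Std.bsz (t.t c))
    (fun _ _ => Nat.zero_le _) hc
  have h3 : perZ Q M c * H577.GLB.Std.bsz (t.t c) ≤ N := h2.trans (h1.le.trans hn)
  rw [SS_eq_JT _ _ (sum_eq_bsz (t.mono c))]
  refine JT_mem (k := H577.GLB.Std.bsz (t.t c)) (fun j hj => ?_) (sum_eq_bsz (t.mono c))
  rw [hh_eq_newt]
  refine H421.GLn.hRS_mem (N := N) R.unit R.dvd (mulRing N om) (fun r k x hr y hy n' hn' => R.ext y hy r k x hr n' hn')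
    (perZ_pos R.unit c) ((torZ_iff _ _).2 dvd_rfl) ?_
  rw [mul_comm]
  exact (Nat.mul_le_mul_left _ hj).trans h3

omit [∀ n, Finite (G n)] in
theorem gen (R : AbsR Q M N G om) {n : ℕ} (hn : n ≤ N) (t : LabZ Q M m n) :
    IsGeneralizedCharacter (G n) (om n (SchP Q M t.t)) := by
  have h := R.SchP_mem hn t 1 R.one n hn
  rwa [mul_one] at h

theorem exists_irr (R : AbsR Q M N G om) {n : ℕ} (hn : n ≤ N) (t : LabZ Q M m n) :
    ∃ (χ : IrrCharacter (G n)) (s : ℤˣ), om n (SchP Q M t.t) = (((s : ℤ) : ℂ)) • (χ : G n → ℂ) := by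
  have : Fintype (G n) := Fintype.ofFinite _
  have h1 := R.gen hn t
  have h2 := R.iso n hn _ (SchP_mem_Hom R.unit t) _ (SchP_mem_Hom R.unit t)
  rw [form_SchP R.unit t t, if_pos rfl] at h2
  rcases Characters.Core.isIrr_of_generalized h1 h2 with h | h
  · exact ⟨⟨_, h⟩, 1, by simp⟩
  · exact ⟨⟨_, h⟩, -1, by simp⟩

/-- every irreducible character has a label -/
theorem exists_lab (R : AbsR Q M N G om) {n : ℕ} (hn : n ≤ N) (hm : n ≤ m) (χ : IrrCharacter (G n)) :
    ∃ (t : LabZ Q M m n) (s : ℤˣ), om n (SchP Q M t.t) = (((s : ℤ) : ℂ)) • (χ : G n → ℂ) := by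
  classical
  have : Fintype (G n) := Fintype.ofFinite _
  by_contra hne
  push Not at hne
  obtain ⟨x, hx, hx1, hx2⟩ := R.del n hn
  have h0 : ∀ t : LabZ Q M m n, classInner (om n (SchP Q M t.t)) (χ : G n → ℂ) = 0 := by
    intro t
    obtain ⟨ψ, s, hs⟩ := R.exists_irr hn t
    have hψ : (ψ : G n → ℂ) ≠ (χ : G n → ℂ) := fun h => hne t s (by rw [hs, h])
    rw [hs, Characters.Core.classInner_smul_left, Characters.Core.classInner_irr_ne ψ.2 χ.2 hψ, mul_zero]
  have h1 : classInner (om n x) (χ : G n → ℂ) = 0 := by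
    have h2 := Hom_le_span (m := m) R.unit hm hx
    refine Submodule.span_induction (p := fun x _ => classInner (om n x) (χ : G n → ℂ) = 0) ?_ ?_ ?_ ?_ h2
    · rintro _ ⟨t, rfl⟩
      exact h0 t
    · rw [map_zero, Characters.Core.classInner_zero_left]
    · intro a b _ _ ha hb
      rw [map_add, Characters.Core.classInner_add_left, ha, hb, add_zero]
    · intro c a _ ha
      rw [map_smul, Characters.Core.classInner_smul_left, ha, mul_zero]
  rw [Characters.Core.classInner_def, Finset.sum_eq_single (1 : G n)] at h1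
  · have h3 : (Nat.card (G n) : ℂ)⁻¹ ≠ 0 := inv_ne_zero (Nat.cast_ne_zero.2 Nat.card_pos.ne')
    have h4 := (mul_eq_zero.1 h1).resolve_left h3
    have h5 := (mul_eq_zero.1 h4).resolve_left hx1
    exact Characters.Core.isIrr_apply_one_ne_zero χ.2 ((map_eq_zero _).1 h5)
  · intro g _ hg
    rw [hx2 g hg, zero_mul]
  · intro h; exact absurd (Finset.mem_univ _) h

/-- **The labels classify the irreducible characters** (abstract GB1). -/
theorem bij (R : AbsR Q M N G om) {n : ℕ} (hn : n ≤ N) (hm : n ≤ m) :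
    (∀ χ : IrrCharacter (G n), ∃! t : LabZ Q M m n, ∃ s : ℤˣ,
      om n (SchP Q M t.t) = (((s : ℤ) : ℂ)) • (χ : G n → ℂ)) ∧
    (∀ t : LabZ Q M m n, ∃! χ : IrrCharacter (G n), ∃ s : ℤˣ,
      om n (SchP Q M t.t) = (((s : ℤ) : ℂ)) • (χ : G n → ℂ)) := by
  have : Fintype (G n) := Fintype.ofFinite _
  have hinner : ∀ {χ χ' : IrrCharacter (G n)} {t t' : LabZ Q M m n},
      (∃ s : ℤˣ, om n (SchP Q M t.t) = (((s : ℤ) : ℂ)) • (χ : G n → ℂ)) →
      (∃ s : ℤˣ, om n (SchP Q M t'.t) = (((s : ℤ) : ℂ)) • (χ' : G n → ℂ)) →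
      ((if t.t = t'.t then 1 else 0 : ℂ) ≠ 0 ↔ classInner (χ : G n → ℂ) (χ' : G n → ℂ) ≠ 0) := by
    rintro χ χ' t t' ⟨s, hs⟩ ⟨s', hs'⟩
    have h2 := R.iso n hn _ (SchP_mem_Hom R.unit t) _ (SchP_mem_Hom R.unit t')
    rw [form_SchP R.unit t t', hs, hs', Characters.Core.classInner_smul_left,
      Characters.Core.classInner_smul_right] at h2
    rw [← h2]
    have h3 : (((s : ℤ) : ℂ)) ≠ 0 := by exact_mod_cast s.ne_zero
    have h4 : conj (((s' : ℤ) : ℂ)) ≠ 0 := by
      rw [map_intCast]; exact_mod_cast s'.ne_zero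
    constructor
    · intro h h5
      exact h (by rw [h5]; simp)
    · intro h
      exact mul_ne_zero h3 (mul_ne_zero h4 h)
  refine ⟨fun χ => ?_, fun t => ?_⟩
  · obtain ⟨t, ht⟩ := R.exists_lab hn hm χ
    refine ⟨t, ht, fun t' ht' => ?_⟩
    by_contra hne
    have h1 := (hinner ht' ht).2 (by rw [Characters.Core.classInner_irr_self χ.2]; exact one_ne_zero)
    rw [if_neg (fun h2 => hne (LabZ.ext h2))] at h1
    exact h1 rfl
  · obtain ⟨χ, hχ⟩ := R.exists_irr hn t
    refine ⟨χ, hχ, fun χ' hχ' => ?_⟩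
    by_contra hne
    have h1 := (hinner hχ' hχ).1 (by rw [if_pos rfl]; exact one_ne_zero)
    exact h1 (Characters.Core.classInner_irr_ne χ'.2 χ.2 fun h => hne (Subtype.ext h))

end AbsR

end Cfsg.Agent.H614.GLn.RSt
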