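import Cfsg.Agent.H112.GLB.Abs
import Cfsg.Agent.H505.S4536.DC.Main
import Cfsg.Agent.H699.EqDeg
import Cfsg.Agent.S0188
import Cfsg.Agent.H614.GLn.LabHom

/-!
# Purity of the lattice of the truncated labelled characters of a product (P5, S4536 and S4537)
-/

set_option autoImplicit false

open scoped ComplexConjugate

universe u

namespace Cfsg.Agent.H614.GLn.RSt

open MvPolynomial Cfsg Cfsg.Agent Cfsg.Agent.H614 Cfsg.Agent.H577.GLB.Std Cfsg.Agent.H614.GLn
open IsLocalRing Cfsg.Agent.H657 Cfsg.Agent.H699.IBrLift Cfsg.Agent.H699.EqDeg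
open Cfsg.Agent.H608.BlockRank Cfsg.Agent.H112.GLB

/-! ### linear algebra -/

section lin

variable {X Y ι κ : Type*}

theorem linInd_prod {f : ι → X → ℂ} {g : κ → Y → ℂ} (hf : LinearIndependent ℂ f) (hg : LinearIndependent ℂ g) :
    LinearIndependent ℂ (fun (ij : ι × κ) (x : X × Y) => f ij.1 x.1 * g ij.2 x.2) := by
  classical
  rw [linearIndependent_iff']
  intro s a h
  let s₁ : Finset ι := s.image Prod.fst
  let s₂ : Finset κ := s.image Prod.snd
  let b : ι × κ → ℂ := fun ij => if ij ∈ s then a ij else 0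
  have hb : ∑ ij ∈ s₁ ×ˢ s₂, b ij • (fun x : X × Y => f ij.1 x.1 * g ij.2 x.2) = 0 := by
    rw [← h]
    refine (Finset.sum_subset_zero_on_sdiff (s₁ := s) ?_ ?_ ?_).symm
    · intro ij hij
      rw [Finset.mem_product]
      exact ⟨Finset.mem_image_of_mem _ hij, Finset.mem_image_of_mem _ hij⟩
    · intro ij hij
      rw [Finset.mem_sdiff] at hij
      simp only [b, if_neg hij.2, zero_smul]
    · intro ij hij
      simp only [b, if_pos hij]
  have h1 : ∀ y : Y, ∀ i ∈ s₁, ∑ j ∈ s₂, b (i, j) * g j y = 0 := by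
    intro y
    refine linearIndependent_iff'.1 hf s₁ (fun i => ∑ j ∈ s₂, b (i, j) * g j y) ?_
    funext x
    have h2 := congrFun hb (x, y)
    rw [Finset.sum_product, Finset.sum_apply] at h2
    rw [Finset.sum_apply, Pi.zero_apply]
    rw [Pi.zero_apply] at h2
    rw [← h2]
    refine Finset.sum_congr rfl fun i _ => ?_
    rw [Pi.smul_apply, smul_eq_mul, Finset.sum_apply, Finset.sum_mul]
    refine Finset.sum_congr rfl fun j _ => ?_
    rw [Pi.smul_apply, smul_eq_mul]
    ring
  intro ij hij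
  have h3 : ∀ j ∈ s₂, b (ij.1, j) = 0 := by
    refine linearIndependent_iff'.1 hg s₂ (fun j => b (ij.1, j)) ?_
    funext y
    rw [Finset.sum_apply, Pi.zero_apply, ← h1 y ij.1 (Finset.mem_image_of_mem _ hij)]
    refine Finset.sum_congr rfl fun j _ => ?_
    rw [Pi.smul_apply, smul_eq_mul]
  have h4 := h3 ij.2 (Finset.mem_image_of_mem _ hij)
  simp only [b, Prod.mk.eta, if_pos hij] at h4
  exact h4

/-- coefficients of a linearly independent family are determined: divisibility -/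
theorem dvd_coeff {W : Type*} [AddCommGroup W] [Module ℂ W] {ι : Type*} {w : ι → W} (hw : LinearIndependent ℂ w)
    {p : ℕ} {v : W} (hv : v ∈ Submodule.span ℤ (Set.range w)) {r : ℕ} {s : Fin r → ι} (hs : Function.Injective s)
    {c : Fin r → ℤ} (h : ∑ i, (c i : ℂ) • w (s i) = (p : ℂ) • v) (i : Fin r) : (p : ℤ) ∣ c i := by
  classical
  obtain ⟨a, ha⟩ := (Finsupp.mem_span_range_iff_exists_finsupp).1 hv
  have hwZ : LinearIndependent ℤ w := hw.restrict_scalars' ℤ
  have h1 : Finsupp.linearCombination ℤ w ((∑ j, Finsupp.single (s j) (c j)) - (p : ℤ) • a) = 0 := by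
    rw [map_sub, map_smul, map_sum]
    simp only [Finsupp.linearCombination_single]
    rw [Finsupp.linearCombination_apply, ha]
    have h2 : ∑ j, c j • w (s j) = ∑ j, (c j : ℂ) • w (s j) :=
      Finset.sum_congr rfl fun j _ => (Int.cast_smul_eq_zsmul ℂ _ _).symm
    rw [h2, h, natCast_zsmul, Nat.cast_smul_eq_nsmul, sub_self]
  have h3 := (linearIndependent_iff.1 hwZ) _ h1
  rw [sub_eq_zero] at h3
  have h4 := DFunLike.congr_fun h3 (s i)
  rw [Finsupp.finsetSum_apply, Finset.sum_eq_single i] at h4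
  · rw [Finsupp.single_eq_same, Finsupp.smul_apply, smul_eq_mul] at h4
    exact ⟨_, h4⟩
  · intro j _ hj
    rw [Finsupp.single_apply, if_neg (fun h5 => hj (hs h5))]
  · intro h5; exact absurd (Finset.mem_univ i) h5

end lin

/-! ### Brauer characters -/

section br

variable {V : ValuationSubring ℂ} {G : Type u} [Group G] [Finite G] {𝔐 : Ideal AlgInt} {p : ℕ}

/-- a Brauer character is an integral combination of restrictions of irreducible characters -/
theorem phi_mem_span_pReg (hM : IsPModular p 𝔐) (hV : Above 𝔐 V) (i : IBr V G) :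
    phi p i ∈ Submodule.span ℤ (Set.range fun χ : IrrCharacter G => pReg p (χ : G → ℂ)) := by
  classical
  have : Fact p.Prime := ⟨hM.1⟩
  have : CharP (ResidueField V) p := hV.charP hM
  have := Characters.Core.finite_irr (G := G)
  have := Fintype.ofFinite (IrrCharacter G)
  obtain ⟨N, k, m, hn, hmp, h1, h0⟩ :=
    Characters.Brauer.exists_exponent (Nat.card G) p Nat.card_pos.ne' hM.1
  obtain ⟨n, hn'⟩ := Characters.Core.isGeneralizedCharacter_iff.1
    (isGeneralizedCharacter_bc hM hV hn hmp h1 h0 i.rep)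
  have hphi : phi p i = ∑ χ : IrrCharacter G, (n χ) • pReg p (χ : G → ℂ) := by
    funext g
    rw [Finset.sum_apply]
    by_cases hg : IsPRegular p g
    · have h2 : g ^ N = g := by
        have h3 : orderOf g ∣ m := by
          have h4 : orderOf g ∣ p ^ k * m := hn ▸ orderOf_dvd_natCard g
          exact (Nat.Coprime.pow_right k
            ((Nat.Prime.coprime_iff_not_dvd hM.1).2 hg).symm).dvd_of_dvd_mul_left h4
        have h5 := (pow_eq_pow_iff_modEq (x := g)).2 (h1.of_dvd h3)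
        rwa [pow_one] at h5
      have h3 : bc p i.rep (g ^ N) = _ := congrFun hn' g
      rw [h2, Finset.sum_apply] at h3
      rw [phi_of i hg, h3]
      refine Finset.sum_congr rfl fun χ _ => ?_
      rw [Pi.smul_apply, Pi.smul_apply, pReg_of hg]
    · rw [phi_of_not i hg]
      refine (Finset.sum_eq_zero fun χ _ => ?_).symm
      rw [Pi.smul_apply, pReg_of_not hg, smul_zero]
  rw [hphi]
  exact Submodule.sum_mem _ fun χ _ => Submodule.smul_mem _ _ (Submodule.subset_span ⟨χ, rfl⟩)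

variable {Q : ℤ} {M : ℕ} [NeZero M] {n m : ℕ}

/-- the truncated characters with labels of order prime to `p` -/
noncomputable def uF (R : Rz Q M p n G) (m : ℕ) (t : {t : LabZ Q M m n // POnly M p t.t}) : G → ℂ :=
  R.om (tauP Q M p (SchP Q M t.1.t))

theorem uF_eq (R : Rz Q M p n G) (t : {t : LabZ Q M m n // POnly M p t.t}) :
    uF R m t = pReg p (R.om (SchP Q M t.1.t)) := R.om_tauP t.1

theorem linInd_uF (hp : p.Prime) (R : Rz Q M p n G) (m : ℕ) : LinearIndependent ℂ (uF R m) := by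
  have h1 := H505.S4536.DC.tau_linearIndependent hp R.unit m n
  have h2 : uF R m = R.om ∘ fun t : {t : LabZ Q M m n // POnly M p t.t} => tauP Q M p (SchP Q M t.1.t) := rfl
  rw [h2]
  refine h1.map_injOn R.om ?_
  refine (Rz.om_injOn R).mono ?_
  rw [SetLike.coe_subset_coe, Submodule.span_le]
  rintro _ ⟨t, rfl⟩
  exact tauP_mem_hom p (schP_mem_hom R.unit t.1)

/-- the restrictions of the irreducible characters are integral combinations of the truncated characters -/
theorem pReg_mem_span_uF (hp : p.Prime) (hmn : n ≤ m) (R : Rz Q M p n G) (hb : R.Bij m) (χ : IrrCharacter G) :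
    pReg p (χ : G → ℂ) ∈ Submodule.span ℤ (Set.range (uF R m)) := by
  obtain ⟨t, ⟨s, hs⟩, -⟩ := hb.1 χ
  have h1 : R.om (tauP Q M p (SchP Q M t.t)) ∈ Submodule.span ℤ (Set.range (uF R m)) := by
    have h2 := H505.S4536.DC.tau_mem_span (p := p) hp R.unit hmn t
    have h3 : R.om (tauP Q M p (SchP Q M t.t)) ∈ (Submodule.span ℤ {x : RS M | ∃ t' : LabZ Q M m n,
        POnly M p t'.t ∧ SameFam Q M p t.t t'.t ∧ x = tauP Q M p (SchP Q M t'.t)}).map
          (R.om.restrictScalars ℤ) := ⟨_, h2, rfl⟩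
    rw [Submodule.map_span] at h3
    refine Submodule.span_mono ?_ h3
    rintro _ ⟨_, ⟨t', ht', -, rfl⟩, rfl⟩
    exact ⟨⟨t', ht'⟩, rfl⟩
  rw [R.om_tauP, hs] at h1
  have h2 : ((s : ℤ)) • pReg p ((((s : ℤ) : ℂ)) • (χ : G → ℂ)) = pReg p (χ : G → ℂ) := by
    rw [map_smul, ← Int.cast_smul_eq_zsmul ℂ, smul_smul]
    rcases Int.units_eq_one_or s with rfl | rfl <;> simp
  rw [← h2]
  exact Submodule.smul_mem _ _ h1

end br

/-! ### the product -/

section prod

variable {V : ValuationSubring ℂ} {𝔐 : Ideal AlgInt} {p : ℕ} {Q : ℤ} {M : ℕ} [NeZero M] {n₁ n₂ m : ℕ}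
  {G₁ G₂ L : Type u} [Group G₁] [Finite G₁] [Group G₂] [Finite G₂] [Group L] [Finite L]

theorem isPRegular_prod (hp : p.Prime) (x : G₁ × G₂) : IsPRegular p x ↔ IsPRegular p x.1 ∧ IsPRegular p x.2 := by
  unfold IsPRegular
  rw [Prod.orderOf, hp.dvd_lcm, not_or]

/-- **Purity.** -/
theorem pure_prod (hM : IsPModular p 𝔐) (hV : Above 𝔐 V) (e : G₁ × G₂ ≃* L) (R₁ : Rz Q M p n₁ G₁)
    (R₂ : Rz Q M p n₂ G₂) (h₁ : n₁ ≤ m) (h₂ : n₂ ≤ m) (hb₁ : R₁.Bij m) (hb₂ : R₂.Bij m) {r : ℕ}
    (t : Fin r → LabZ Q M m n₁) (hti : Function.Injective t) (ht : ∀ s, POnly M p (t s).t)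
    (t' : LabZ Q M m n₂) (ht' : POnly M p t'.t) (c : Fin r → ℤ) (h : IBr V L → ℤ)
    (H : ∀ x : L, IsPRegular p x →
      ∑ s, (c s : ℂ) * (R₁.om (SchP Q M (t s).t) (e.symm x).1 * R₂.om (SchP Q M t'.t) (e.symm x).2) =
        (p : ℂ) * ∑ᶠ j, (h j : ℂ) * phi p j x) (s : Fin r) : (p : ℤ) ∣ c s := by
  classical
  have hp := hM.1
  have : Fact p.Prime := ⟨hp⟩
  have := Fintype.ofFinite (IBr V L)
  -- the linearly independent family
  let w : ({t : LabZ Q M m n₁ // POnly M p t.t} × {t : LabZ Q M m n₂ // POnly M p t.t}) → (G₁ × G₂ → ℂ) :=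
    fun ij x => uF R₁ m ij.1 x.1 * uF R₂ m ij.2 x.2
  have hw : LinearIndependent ℂ w := linInd_prod (linInd_uF hp R₁ m) (linInd_uF hp R₂ m)
  have hreg : ∀ x : G₁ × G₂, IsPRegular p (e x) ↔ IsPRegular p x.1 ∧ IsPRegular p x.2 := by
    intro x
    rw [← isPRegular_prod hp]
    unfold IsPRegular
    rw [MulEquiv.orderOf_eq]
  -- products of two functions
  have hprod : ∀ (a : G₁ → ℂ) (b : G₂ → ℂ), a ∈ Submodule.span ℤ (Set.range (uF R₁ m)) →
      b ∈ Submodule.span ℤ (Set.range (uF R₂ m)) →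
      (fun x : G₁ × G₂ => a x.1 * b x.2) ∈ Submodule.span ℤ (Set.range w) := by
    intro a b ha hb
    refine Submodule.span_induction (p := fun a _ => (fun x : G₁ × G₂ => a x.1 * b x.2) ∈
      Submodule.span ℤ (Set.range w)) ?_ ?_ ?_ ?_ ha
    · rintro _ ⟨i, rfl⟩
      refine Submodule.span_induction (p := fun b _ => (fun x : G₁ × G₂ => uF R₁ m i x.1 * b x.2) ∈
        Submodule.span ℤ (Set.range w)) ?_ ?_ ?_ ?_ hb
      · rintro _ ⟨j, rfl⟩
        exact Submodule.subset_span ⟨(i, j), rfl⟩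
      · convert Submodule.zero_mem (Submodule.span ℤ (Set.range w)) using 1
        funext x; simp
      · intro b b' _ _ hb hb'
        convert Submodule.add_mem _ hb hb' using 1
        funext x; simp [mul_add]
      · intro k b _ hb
        convert Submodule.smul_mem _ k hb using 1
        funext x; simp [zsmul_eq_mul]; ring
    · convert Submodule.zero_mem (Submodule.span ℤ (Set.range w)) using 1
      funext x; simp
    · intro a a' _ _ ha ha'
      convert Submodule.add_mem _ ha ha' using 1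
      funext x; simp [add_mul]
    · intro k a _ ha
      convert Submodule.smul_mem _ k ha using 1
      funext x; simp [zsmul_eq_mul]; ring
  -- restrictions of the irreducible characters
  have hirr : ∀ ψ : IrrCharacter L, (fun x : G₁ × G₂ => pReg p (ψ : L → ℂ) (e x)) ∈
      Submodule.span ℤ (Set.range w) := by
    intro ψ
    have h3 : IsIrrCharacter (G₁ × G₂) (fun x => (ψ : L → ℂ) (e x)) :=
      Characters.Core.isIrr_comp (e : G₁ × G₂ →* L) e.surjective ψ.2
    obtain ⟨a, b, ha, hb, hab⟩ := (Cfsg.Agent.S0188.result _).1 h3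
    have h4 := hprod _ _ (pReg_mem_span_uF hp h₁ R₁ hb₁ ⟨a, ha⟩) (pReg_mem_span_uF hp h₂ R₂ hb₂ ⟨b, hb⟩)
    convert h4 using 1
    funext x
    have h5 : (ψ : L → ℂ) (e x) = a x.1 * b x.2 := congrFun hab x
    show pReg p (ψ : L → ℂ) (e x) = pReg p a x.1 * pReg p b x.2
    by_cases hx : IsPRegular p (e x)
    · have h6 := (hreg x).1 hx
      rw [pReg_of hx, pReg_of h6.1, pReg_of h6.2, h5]
    · rw [pReg_of_not hx]
      by_cases hx1 : IsPRegular p x.1
      · have hx2 : ¬ IsPRegular p x.2 := fun hx2 => hx ((hreg x).2 ⟨hx1, hx2⟩)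
        rw [pReg_of_not hx2, mul_zero]
      · rw [pReg_of_not hx1, zero_mul]
  -- the Brauer characters
  have hphi : ∀ j : IBr V L, (fun x : G₁ × G₂ => phi p j (e x)) ∈ Submodule.span ℤ (Set.range w) := by
    intro j
    refine Submodule.span_induction (p := fun a _ => (fun x : G₁ × G₂ => a (e x)) ∈
      Submodule.span ℤ (Set.range w)) ?_ ?_ ?_ ?_ (phi_mem_span_pReg hM hV j)
    · rintro _ ⟨ψ, rfl⟩
      exact hirr ψ
    · exact Submodule.zero_mem (Submodule.span ℤ (Set.range w))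
    · intro a a' _ _ ha ha'
      exact Submodule.add_mem _ ha ha'
    · intro k a _ ha
      exact Submodule.smul_mem _ k ha
  let v : G₁ × G₂ → ℂ := fun x => ∑ j, (h j : ℂ) * phi p j (e x)
  have hv : v ∈ Submodule.span ℤ (Set.range w) := by
    have h3 : v = ∑ j, h j • (fun x : G₁ × G₂ => phi p j (e x)) := by
      funext x
      rw [Finset.sum_apply]
      refine Finset.sum_congr rfl fun j _ => ?_
      rw [Pi.smul_apply, zsmul_eq_mul]
    rw [h3]
    exact Submodule.sum_mem _ fun j _ => Submodule.smul_mem _ _ (hphi j)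
  refine dvd_coeff hw hv (s := fun i => (⟨t i, ht i⟩, ⟨t', ht'⟩)) (fun i j hij => hti ?_) (c := c) ?_ s
  · have h3 := congrArg (fun z => z.1.1) hij
    exact h3
  · funext x
    rw [Finset.sum_apply, Pi.smul_apply, smul_eq_mul]
    by_cases hx : IsPRegular p (e x)
    · have h6 := (hreg x).1 hx
      have h7 := H (e x) hx
      rw [e.symm_apply_apply, finsum_eq_sum_of_fintype] at h7
      rw [← h7]
      refine Finset.sum_congr rfl fun i _ => ?_
      rw [Pi.smul_apply, smul_eq_mul]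
      show _ * (uF R₁ m ⟨t i, ht i⟩ x.1 * uF R₂ m ⟨t', ht'⟩ x.2) = _
      rw [uF_eq, uF_eq, pReg_of h6.1, pReg_of h6.2]
    · have h7 : v x = 0 := Finset.sum_eq_zero fun j _ => by rw [phi_of_not j hx, mul_zero]
      rw [h7, mul_zero]
      refine Finset.sum_eq_zero fun i _ => ?_
      rw [Pi.smul_apply, smul_eq_mul]
      show _ * (uF R₁ m ⟨t i, ht i⟩ x.1 * uF R₂ m ⟨t', ht'⟩ x.2) = _
      rw [uF_eq, uF_eq]
      by_cases hx1 : IsPRegular p x.1
      · have hx2 : ¬ IsPRegular p x.2 := fun hx2 => hx ((hreg x).2 ⟨hx1, hx2⟩)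
        rw [pReg_of_not hx2, mul_zero, mul_zero]
      · rw [pReg_of_not hx1, zero_mul, mul_zero]

end prod

end Cfsg.Agent.H614.GLn.RSt
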