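import Cfsg.Agent.H614.GLn.Defs

/-!
# The Hall product is associative
-/

set_option autoImplicit false

open Polynomial

namespace Cfsg.Agent.H614.GLn

universe u

variable {F : Type u} [Field F]

namespace Fam

section add

theorem zero_fn (V : Type u) [AddCommGroup V] [Module F V] (T : V →ₗ[F] V) : (0 : Fam F).fn V T = 0 := rfl
theorem add_fn (f g : Fam F) (V : Type u) [AddCommGroup V] [Module F V] (T : V →ₗ[F] V) :
    (f + g).fn V T = f.fn V T + g.fn V T := rfl
theorem neg_fn (f : Fam F) (V : Type u) [AddCommGroup V] [Module F V] (T : V →ₗ[F] V) :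
    (-f).fn V T = - f.fn V T := rfl
theorem smul_fn (c : ℂ) (f : Fam F) (V : Type u) [AddCommGroup V] [Module F V] (T : V →ₗ[F] V) :
    (c • f).fn V T = c * f.fn V T := rfl

noncomputable instance instAddCommGroup : AddCommGroup (Fam F) where
  add_assoc f g h := ext' fun V _ _ _ T => add_assoc _ _ _
  zero_add f := ext' fun V _ _ _ T => zero_add _
  add_zero f := ext' fun V _ _ _ T => add_zero _
  add_comm f g := ext' fun V _ _ _ T => add_comm _ _
  neg_add_cancel f := ext' fun V _ _ _ T => neg_add_cancel _
  nsmul := nsmulRec
  zsmul := zsmulRec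

noncomputable instance instModule : Module ℂ (Fam F) where
  one_smul f := ext' fun V _ _ _ T => one_mul _
  mul_smul a b f := ext' fun V _ _ _ T => mul_assoc _ _ _
  smul_zero a := ext' fun V _ _ _ T => mul_zero _
  smul_add a f g := ext' fun V _ _ _ T => mul_add _ _ _
  add_smul a b f := ext' fun V _ _ _ T => add_mul _ _ _
  zero_smul f := ext' fun V _ _ _ T => zero_mul _

end add

section dist

variable (f f' g g' : Fam F) {V : Type u} [AddCommGroup V] [Module F V] (T : V →ₗ[F] V) (W : Submodule F V)

theorem term_add_left : (f + f').term g V T W = f.term g V T W + f'.term g V T W := by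
  by_cases h : W ≤ W.comap T
  · rw [term_of h, term_of h, term_of h, add_fn, add_mul]
  · rw [term_of_not h, term_of_not h, term_of_not h, add_zero]

theorem term_add_right : f.term (g + g') V T W = f.term g V T W + f.term g' V T W := by
  by_cases h : W ≤ W.comap T
  · rw [term_of h, term_of h, term_of h, add_fn, mul_add]
  · rw [term_of_not h, term_of_not h, term_of_not h, add_zero]

theorem term_smul_left (c : ℂ) : (c • f).term g V T W = c * f.term g V T W := by
  by_cases h : W ≤ W.comap T
  · rw [term_of h, term_of h, smul_fn, mul_assoc]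
  · rw [term_of_not h, term_of_not h, mul_zero]

theorem term_smul_right (c : ℂ) : f.term (c • g) V T W = c * f.term g V T W := by
  by_cases h : W ≤ W.comap T
  · rw [term_of h, term_of h, smul_fn, mul_left_comm]
  · rw [term_of_not h, term_of_not h, mul_zero]

theorem add_mul' : (f + f') * g = f * g + f' * g := by
  refine Fam.ext' fun V _ _ _ T => ?_
  have := Fintype.ofFinite (Submodule F V)
  rw [add_fn, mul_fn', mul_fn', mul_fn', ← Finset.sum_add_distrib]
  exact Finset.sum_congr rfl fun W _ => term_add_left f f' g T W

theorem mul_add' : f * (g + g') = f * g + f * g' := by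
  refine Fam.ext' fun V _ _ _ T => ?_
  have := Fintype.ofFinite (Submodule F V)
  rw [add_fn, mul_fn', mul_fn', mul_fn', ← Finset.sum_add_distrib]
  exact Finset.sum_congr rfl fun W _ => term_add_right f g g' T W

theorem smul_mul' (c : ℂ) : (c • f) * g = c • (f * g) := by
  refine Fam.ext' fun V _ _ _ T => ?_
  have := Fintype.ofFinite (Submodule F V)
  rw [smul_fn, mul_fn', mul_fn', Finset.mul_sum]
  exact Finset.sum_congr rfl fun W _ => term_smul_left f g T W c

theorem mul_smul' (c : ℂ) : f * (c • g) = c • (f * g) := by
  refine Fam.ext' fun V _ _ _ T => ?_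
  have := Fintype.ofFinite (Submodule F V)
  rw [smul_fn, mul_fn', mul_fn', Finset.mul_sum]
  exact Finset.sum_congr rfl fun W _ => term_smul_right f g T W c

end dist

section one

theorem one_fn (V : Type u) [AddCommGroup V] [Module F V] [Subsingleton V] (T : V →ₗ[F] V) :
    (1 : Fam F).fn V T = 1 := if_pos ‹Subsingleton V›

theorem one_fn' (V : Type u) [AddCommGroup V] [Module F V] (h : ¬ Subsingleton V) (T : V →ₗ[F] V) :
    (1 : Fam F).fn V T = 0 := if_neg h

theorem one_mul' (f : Fam F) : 1 * f = f := by
  refine Fam.ext' fun V _ _ _ T => ?_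
  have := Fintype.ofFinite (Submodule F V)
  rw [mul_fn', Finset.sum_eq_single ⊤]
  · rw [term_of (by intro x _; trivial), one_fn, one_mul]
    exact f.conj' (Submodule.topEquiv (R := F) (M := V)).symm fun _ => rfl
  · intro W _ hW
    by_cases h : W ≤ W.comap T
    · rw [term_of h, one_fn', zero_mul]
      intro h1
      exact hW (Submodule.Quotient.subsingleton_iff.1 h1)
    · exact term_of_not h
  · intro h; exact absurd (Finset.mem_univ _) h

theorem mul_one' (f : Fam F) : f * 1 = f := by
  refine Fam.ext' fun V _ _ _ T => ?_
  have := Fintype.ofFinite (Submodule F V)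
  rw [mul_fn', Finset.sum_eq_single ⊥]
  · rw [term_of bot_le, one_fn, mul_one]
    exact (f.conj' (Submodule.quotEquivOfEqBot (⊥ : Submodule F V) rfl).symm fun _ => rfl)
  · intro W _ hW
    by_cases h : W ≤ W.comap T
    · rw [term_of h, one_fn', mul_zero]
      intro h1
      exact hW (Submodule.subsingleton_iff_eq_bot.1 h1)
    · exact term_of_not h
  · intro h; exact absurd (Finset.mem_univ _) h

end one

/-- the contribution of a chain `W ≤ W'` to a triple product -/
noncomputable def term3 (f g k : Fam F) (V : Type u) [AddCommGroup V] [Module F V] (T : V →ₗ[F] V)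
    (W W' : Submodule F V) : ℂ := by
  classical
  exact if h : W ≤ W.comap T ∧ W' ≤ W'.comap T ∧ W ≤ W' then
    f.fn (V ⧸ W') (W'.mapQ W' T h.2.1) * (g.fn (W' ⧸ W.comap W'.subtype)
      ((W.comap W'.subtype).mapQ (W.comap W'.subtype) (T.restrict h.2.1) (fun x hx => h.1 hx)) *
        k.fn W (T.restrict h.1)) else 0

theorem term_mul_right (f g k : Fam F) {V : Type u} [AddCommGroup V] [Module F V] [Finite V]
    [Fintype (Submodule F V)] (T : V →ₗ[F] V) (W' : Submodule F V) :
    f.term (g * k) V T W' = ∑ W : Submodule F V, term3 f g k V T W W' := by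
  classical
  by_cases h' : W' ≤ W'.comap T
  · have := Fintype.ofFinite (Submodule F W')
    rw [term_of h', mul_fn', Finset.mul_sum,
      ← Finset.sum_subset (Finset.subset_univ (Finset.univ.filter fun W : Submodule F V => W ≤ W'))]
    · refine Finset.sum_nbij' (fun U => U.map W'.subtype) (fun W => W.comap W'.subtype) ?_ ?_ ?_ ?_ ?_
      · intro U _
        exact Finset.mem_filter.2 ⟨Finset.mem_univ _, Submodule.map_subtype_le W' U⟩
      · intro W _
        exact Finset.mem_univ _
      · intro U _
        exact Submodule.comap_map_eq_of_injective W'.injective_subtype U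
      · intro W hW
        rw [Submodule.map_comap_subtype]
        exact inf_eq_right.2 (Finset.mem_filter.1 hW).2
      · intro U _
        have hU : U.map W'.subtype ≤ W' := Submodule.map_subtype_le W' U
        have hc : (U.map W'.subtype).comap W'.subtype = U :=
          Submodule.comap_map_eq_of_injective W'.injective_subtype U
        by_cases hst : U ≤ U.comap (T.restrict h')
        · have h1 : U.map W'.subtype ≤ (U.map W'.subtype).comap T := by
            rintro _ ⟨x, hx, rfl⟩
            exact ⟨T.restrict h' x, hst hx, rfl⟩
          rw [term_of hst, term3, dif_pos ⟨h1, h', hU⟩]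
          congr 2
          · refine (g.conj' (Submodule.quotEquivOfEq _ _ hc.symm) ?_).symm
            intro x
            obtain ⟨v, rfl⟩ := U.mkQ_surjective x
            rfl
          · refine (k.conj' (Submodule.equivMapOfInjective W'.subtype W'.injective_subtype U) ?_).symm
            intro x
            rfl
        · rw [term_of_not hst, mul_zero, term3, dif_neg]
          rintro ⟨h1, -, -⟩
          apply hst
          intro x hx
          obtain ⟨y, hy, hyx⟩ := h1 (Submodule.mem_map_of_mem (f := W'.subtype) hx)
          have : y = T.restrict h' x := Subtype.ext hyx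
          rw [Submodule.mem_comap, ← this]
          exact hy
    · intro W _ hW
      rw [term3, dif_neg]
      rintro ⟨-, -, h3⟩
      exact hW (Finset.mem_filter.2 ⟨Finset.mem_univ _, h3⟩)
  · rw [term_of_not h']
    refine (Finset.sum_eq_zero fun W _ => ?_).symm
    rw [term3, dif_neg]
    rintro ⟨-, h2, -⟩
    exact h' h2

theorem term_mul_left (f g k : Fam F) {V : Type u} [AddCommGroup V] [Module F V] [Finite V]
    [Fintype (Submodule F V)] (T : V →ₗ[F] V) (W : Submodule F V) :
    (f * g).term k V T W = ∑ W' : Submodule F V, term3 f g k V T W W' := by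
  classical
  by_cases h : W ≤ W.comap T
  · have hfq : Finite (V ⧸ W) := Finite.of_surjective W.mkQ W.mkQ_surjective
    have := Fintype.ofFinite (Submodule F (V ⧸ W))
    rw [term_of h, mul_fn', Finset.sum_mul,
      ← Finset.sum_subset (Finset.subset_univ (Finset.univ.filter fun W' : Submodule F V => W ≤ W'))]
    · refine Finset.sum_nbij' (fun U => U.comap W.mkQ) (fun W' => W'.map W.mkQ) ?_ ?_ ?_ ?_ ?_
      · intro U _
        exact Finset.mem_filter.2 ⟨Finset.mem_univ _, Submodule.le_comap_mkQ W U⟩
      · intro W' _
        exact Finset.mem_univ _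
      · intro U _
        exact Submodule.map_comap_eq_of_surjective W.mkQ_surjective U
      · intro W' hW'
        rw [Submodule.comap_map_mkQ]
        exact sup_eq_right.2 (Finset.mem_filter.1 hW').2
      · intro U _
        have hU : W ≤ U.comap W.mkQ := Submodule.le_comap_mkQ W U
        have hm : (U.comap W.mkQ).map W.mkQ = U := Submodule.map_comap_eq_of_surjective W.mkQ_surjective U
        by_cases hst : U ≤ U.comap (W.mapQ W T h)
        · have h1 : U.comap W.mkQ ≤ (U.comap W.mkQ).comap T := fun x hx => hst hx
          rw [term_of hst, term3, dif_pos ⟨h, h1, hU⟩, mul_assoc]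
          congr 1
          · refine (f.conj' ((Submodule.quotEquivOfEq _ _ hm.symm).trans
              (Submodule.quotientQuotientEquivQuotient W (U.comap W.mkQ) hU)) ?_).symm
            intro x
            obtain ⟨v, rfl⟩ := U.mkQ_surjective x
            obtain ⟨v, rfl⟩ := W.mkQ_surjective v
            rfl
          · congr 1
            let φ : ↥(U.comap W.mkQ) →ₗ[F] U :=
              (W.mkQ ∘ₗ (U.comap W.mkQ).subtype).codRestrict U (fun x => x.2)
            have hker : LinearMap.ker φ = W.comap (U.comap W.mkQ).subtype := by
              ext x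
              rw [LinearMap.mem_ker, Submodule.mem_comap]
              constructor
              · intro hx
                have : W.mkQ (x : V) = 0 := congrArg Subtype.val hx
                exact (Submodule.Quotient.mk_eq_zero W).1 this
              · intro hx
                exact Subtype.ext ((Submodule.Quotient.mk_eq_zero W).2 hx)
            have hsur : Function.Surjective φ := by
              rintro ⟨x, hx⟩
              obtain ⟨v, rfl⟩ := W.mkQ_surjective x
              exact ⟨⟨v, hx⟩, rfl⟩
            refine g.conj' ((Submodule.quotEquivOfEq _ _ hker.symm).trans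
              (φ.quotKerEquivOfSurjective hsur)) ?_
            intro x
            obtain ⟨v, rfl⟩ := (W.comap (U.comap W.mkQ).subtype).mkQ_surjective x
            rfl
        · rw [term_of_not hst, zero_mul, term3, dif_neg]
          rintro ⟨-, h2, -⟩
          apply hst
          intro x hx
          obtain ⟨v, rfl⟩ := W.mkQ_surjective x
          exact h2 hx
    · intro W' _ hW'
      rw [term3, dif_neg]
      rintro ⟨-, -, h3⟩
      exact hW' (Finset.mem_filter.2 ⟨Finset.mem_univ _, h3⟩)
  · rw [term_of_not h]
    refine (Finset.sum_eq_zero fun W' _ => ?_).symm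
    rw [term3, dif_neg]
    rintro ⟨h1, -, -⟩
    exact h h1

theorem mul_assoc' (f g k : Fam F) : f * g * k = f * (g * k) := by
  refine Fam.ext' fun V _ _ _ T => ?_
  have := Fintype.ofFinite (Submodule F V)
  rw [mul_fn', mul_fn', Finset.sum_congr rfl fun W _ => term_mul_left f g k T W,
    Finset.sum_congr rfl fun W _ => term_mul_right f g k T W, Finset.sum_comm]

end Fam

end Cfsg.Agent.H614.GLn
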