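import Cfsg.Agent.H614.GLn.Assoc

/-!
# Basic families, inner product, labels
-/

set_option autoImplicit false

open Polynomial
open scoped ComplexConjugate

namespace Cfsg.Agent.H614.GLn

open Cfsg.Agent.H139.Cusp

universe u w

attribute [local instance] fintypeHom fintypeSub finite_quot

variable {F : Type u} [Field F]

/-- all members are generalized characters of the groups `GL(V)` -/
def IsVC (f : Fam F) : Prop := ∀ (V : Type u) [AddCommGroup V] [Module F V] [Finite V],
  IsGeneralizedCharacter (V →ₗ[F] V)ˣ (fun g => f.fn V (g : V →ₗ[F] V))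

/-- a function of the characteristic polynomial -/
noncomputable def grp (B : F[X] → ℂ) : Fam F where
  fn V _ _ T := by
    classical
    exact if h : Finite V then (haveI := h; B T.charpoly) else 0
  conj' := by
    intro V V' _ _ _ _ e T T' h
    by_cases hV : Finite V
    · have hV' : Finite V' := Finite.of_equiv V e.toEquiv
      rw [dif_pos hV, dif_pos hV']
      exact congrArg B (charpoly_conj_eq e h)
    · rw [dif_neg hV, dif_neg]
      intro h1
      exact hV (Finite.of_equiv V' e.symm.toEquiv)
  fin' T h := dif_neg h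

theorem grp_fn (B : F[X] → ℂ) (V : Type u) [AddCommGroup V] [Module F V] [h : Finite V] (T : V →ₗ[F] V) :
    (grp B).fn V T = B T.charpoly := dif_pos h

/-- pointwise multiplication by a function of the characteristic polynomial -/
noncomputable def pw (B : F[X] → ℂ) (f : Fam F) : Fam F where
  fn V _ _ T := (grp B).fn V T * f.fn V T
  conj' e _ _ h := by rw [(grp B).conj' e h, f.conj' e h]
  fin' T h := by rw [(grp B).fin' T h, zero_mul]

theorem pw_fn (B : F[X] → ℂ) (f : Fam F) (V : Type u) [AddCommGroup V] [Module F V] [Finite V]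
    (T : V →ₗ[F] V) : (pw B f).fn V T = B T.charpoly * f.fn V T := by
  rw [← grp_fn B V T]; rfl

/-- the component of dimension `n` -/
noncomputable def comp (n : ℕ) (f : Fam F) : Fam F := pw (fun p => if p.natDegree = n then 1 else 0) f

theorem comp_fn (n : ℕ) (f : Fam F) (V : Type u) [AddCommGroup V] [Module F V] [Finite V]
    (T : V →ₗ[F] V) : (comp n f).fn V T = if Module.finrank F V = n then f.fn V T else 0 := by
  rw [comp, pw_fn, LinearMap.charpoly_natDegree, ite_mul, one_mul, zero_mul]

/-- the Möbius inversion of an additive function of the characteristic polynomial -/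
noncomputable def kapF (B : F[X] → ℂ) : Fam F where
  fn V _ _ T := by
    classical
    exact if h : Finite V then (haveI := h; kap B T ⊤) else 0
  conj' := by
    intro V V' _ _ _ _ e T T' h
    by_cases hV : Finite V
    · have hV' : Finite V' := Finite.of_equiv V e.toEquiv
      rw [dif_pos hV, dif_pos hV']
      have h1 := kap_map B (e : V →ₗ[F] V') e.injective (g := T) (g' := T') h ⊤
      rw [← h1, Submodule.map_top, LinearEquiv.range]
    · rw [dif_neg hV, dif_neg]
      intro h1
      exact hV (Finite.of_equiv V' e.symm.toEquiv)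
  fin' T h := dif_neg h

theorem kapF_fn (B : F[X] → ℂ) (V : Type u) [AddCommGroup V] [Module F V] [h : Finite V] (T : V →ₗ[F] V) :
    (kapF B).fn V T = kap B T ⊤ := dif_pos h

/-- additive functions of monic polynomials -/
def Add (B : F[X] → ℂ) : Prop := ∀ p q : F[X], p.Monic → q.Monic → B (p * q) = B p + B q

/-- multiplicative functions of monic polynomials -/
def Mlt (B : F[X] → ℂ) : Prop := B 1 = 1 ∧ ∀ p q : F[X], p.Monic → q.Monic → B (p * q) = B p * B q

/-- families supported on automorphisms -/
def Unt (f : Fam F) : Prop := ∀ (V : Type u) [AddCommGroup V] [Module F V] (T : V →ₗ[F] V),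
  ¬ IsUnit T → f.fn V T = 0

open Classical in
/-- the (hermitian) inner product of the restrictions to `GL_n(F)` -/
noncomputable def ip (n : ℕ) (f g : Fam F) : ℂ :=
  (Nat.card ((Fin n → F) →ₗ[F] (Fin n → F))ˣ : ℂ)⁻¹ *
    ∑ᶠ x : ((Fin n → F) →ₗ[F] (Fin n → F))ˣ,
      f.fn (Fin n → F) (x : (Fin n → F) →ₗ[F] (Fin n → F)) * conj (g.fn (Fin n → F) (x : (Fin n → F) →ₗ[F] (Fin n → F)))

section labels

variable {K : Type w} [Field K] [Algebra F K] (θ : K →*₀ ℂ)

open Classical in
/-- the sum over the nonzero roots of the `a`-th power of `θ` -/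
noncomputable def lba (a : ℕ) (h : F[X]) : ℂ :=
  ((h.map (algebraMap F K)).roots.map fun x => if x = 0 then 0 else θ x ^ a).sum

theorem lba_add (a : ℕ) : Add (F := F) (lba θ a) := by
  intro p q hp hq
  rw [lba, Polynomial.map_mul, roots_mul (mul_ne_zero (hp.map _).ne_zero (hq.map _).ne_zero),
    Multiset.map_add, Multiset.sum_add]
  rfl

/-- the primitive class function `R_k(θ^a)` of `GL_k(F)` -/
noncomputable def Rf (k a : ℕ) : Fam F := comp k (kapF (lba θ a))

/-- the exponent of the character of the torus of order `q^k - 1` with label `c ∈ ℤ/M`, `(q^k - 1) c = 0` -/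
def expo (q M : ℕ) (k : ℕ) (c : ZMod M) : ℕ := c.val * (q ^ k - 1) / M

/-- the primitive class function of `GL_k(F)` with label `c` (to be used when `(q^k - 1) c = 0`) -/
noncomputable def Rc (M k : ℕ) (c : ZMod M) : Fam F := Rf θ k (expo (Nat.card F) M k c)

end labels

end Cfsg.Agent.H614.GLn
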