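import Cfsg.Agent.H139.Cusp.Theta
import Cfsg.Agent.H139.Cusp.LiftPow

/-!
# The Hall algebra of families of class functions on all `GL_n(F)` (all endomorphism monoids)

`Fam F` : functions `f (V, T)` of a finite `F`-space `V` and an endomorphism `T`, invariant under
isomorphism.  Product: `(f * g)(V, T) = ∑_{W ≤ V, T W ≤ W} f (V / W, T) g (W, T)`
(Harish-Chandra induction on each `GL_n`).
-/

set_option autoImplicit false

open Polynomial

namespace Cfsg.Agent.H614.GLn

universe u

/-- A family of class functions. -/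
structure Fam (F : Type u) [Field F] where
  /-- the value at `(V, T)` -/
  fn : (V : Type u) → [AddCommGroup V] → [Module F V] → (V →ₗ[F] V) → ℂ
  conj' : ∀ {V V' : Type u} [AddCommGroup V] [Module F V] [AddCommGroup V'] [Module F V']
    (e : V ≃ₗ[F] V') {T : V →ₗ[F] V} {T' : V' →ₗ[F] V'}, (∀ v, T' (e v) = e (T v)) → fn V' T' = fn V T
  fin' : ∀ {V : Type u} [AddCommGroup V] [Module F V] (T : V →ₗ[F] V), ¬ Finite V → fn V T = 0

variable {F : Type u} [Field F]

namespace Fam

@[ext] theorem ext' {f g : Fam F} (h : ∀ (V : Type u) [AddCommGroup V] [Module F V] [Finite V]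
    (T : V →ₗ[F] V), f.fn V T = g.fn V T) : f = g := by
  obtain ⟨f, hf, hf'⟩ := f
  obtain ⟨g, hg, hg'⟩ := g
  have : @f = @g := by
    funext V i1 i2 T
    by_cases hV : Finite V
    · exact h V T
    · rw [hf' T hV, hg' T hV]
  subst this
  rfl

instance : Zero (Fam F) := ⟨⟨fun _ _ _ _ => 0, fun _ _ _ _ => rfl, fun _ _ => rfl⟩⟩
instance : Add (Fam F) := ⟨fun f g => ⟨fun V _ _ T => f.fn V T + g.fn V T,
  fun e _ _ h => by rw [f.conj' e h, g.conj' e h], fun T h => by rw [f.fin' T h, g.fin' T h, add_zero]⟩⟩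
instance : Neg (Fam F) := ⟨fun f => ⟨fun V _ _ T => - f.fn V T,
  fun e _ _ h => by rw [f.conj' e h], fun T h => by rw [f.fin' T h, neg_zero]⟩⟩
instance : SMul ℂ (Fam F) := ⟨fun c f => ⟨fun V _ _ T => c * f.fn V T,
  fun e _ _ h => by rw [f.conj' e h], fun T h => by rw [f.fin' T h, mul_zero]⟩⟩

open Classical in
/-- the contribution of the subspace `W` to the Hall product -/
noncomputable def term (f g : Fam F) (V : Type u) [AddCommGroup V] [Module F V] (T : V →ₗ[F] V)
    (W : Submodule F V) : ℂ :=
  if h : W ≤ W.comap T then f.fn (V ⧸ W) (W.mapQ W T h) * g.fn W (T.restrict h) else 0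

theorem term_of {f g : Fam F} {V : Type u} [AddCommGroup V] [Module F V] {T : V →ₗ[F] V}
    {W : Submodule F V} (h : W ≤ W.comap T) :
    f.term g V T W = f.fn (V ⧸ W) (W.mapQ W T h) * g.fn W (T.restrict h) := dif_pos h

theorem term_of_not {f g : Fam F} {V : Type u} [AddCommGroup V] [Module F V] {T : V →ₗ[F] V}
    {W : Submodule F V} (h : ¬ W ≤ W.comap T) : f.term g V T W = 0 := dif_neg h

theorem term_conj (f g : Fam F) {V V' : Type u} [AddCommGroup V] [Module F V] [AddCommGroup V']
    [Module F V'] (e : V ≃ₗ[F] V') {T : V →ₗ[F] V} {T' : V' →ₗ[F] V'} (h : ∀ v, T' (e v) = e (T v))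
    (W : Submodule F V) : f.term g V' T' (W.map (e : V →ₗ[F] V')) = f.term g V T W := by
  have hst : W.map (e : V →ₗ[F] V') ≤ (W.map (e : V →ₗ[F] V')).comap T' ↔ W ≤ W.comap T := by
    constructor
    · intro h1 w hw
      obtain ⟨x, hx, hxe⟩ := h1 (Submodule.mem_map_of_mem hw)
      rw [LinearEquiv.coe_coe, h, e.injective.eq_iff] at hxe
      rw [Submodule.mem_comap, ← hxe]
      exact hx
    · rintro h1 _ ⟨w, hw, rfl⟩
      rw [Submodule.mem_comap, LinearEquiv.coe_coe, h]
      exact Submodule.mem_map_of_mem (f := (e : V →ₗ[F] V')) (h1 hw)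
  by_cases hW : W ≤ W.comap T
  · rw [term_of hW, term_of (hst.2 hW)]
    congr 1
    · refine f.conj' (Submodule.Quotient.equiv W (W.map (e : V →ₗ[F] V')) e rfl) ?_
      intro x
      obtain ⟨v, rfl⟩ := W.mkQ_surjective x
      simp [h]
    · refine g.conj' (e.submoduleMap W) ?_
      intro x
      apply Subtype.ext
      simp [h]
  · rw [term_of_not hW, term_of_not (fun h1 => hW (hst.1 h1))]

noncomputable instance : Mul (Fam F) := ⟨fun f g =>
  ⟨fun V _ _ T => ∑ᶠ W : Submodule F V, f.term g V T W, by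
    intro V V' _ _ _ _ e T T' h
    rw [← finsum_comp_equiv (Submodule.orderIsoMapComap e).toEquiv]
    refine finsum_congr fun W => ?_
    exact term_conj f g e h W, by
    intro V _ _ T hV
    rw [← finsum_zero (α := Submodule F V)]
    refine finsum_congr fun W => ?_
    by_cases hW : W ≤ W.comap T
    · rw [term_of hW]
      by_cases h1 : Finite W
      · by_cases h2 : Finite (V ⧸ W)
        · exfalso
          apply hV
          have : Finite (V ⧸ W.toAddSubgroup) := h2
          have : Finite W.toAddSubgroup := h1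
          exact Finite.of_addSubgroup_quotient (H := W.toAddSubgroup)
        · rw [f.fin' _ h2, zero_mul]
      · rw [g.fin' _ h1, mul_zero]
    · exact term_of_not hW⟩⟩

theorem mul_fn (f g : Fam F) (V : Type u) [AddCommGroup V] [Module F V] (T : V →ₗ[F] V) :
    (f * g).fn V T = ∑ᶠ W : Submodule F V, f.term g V T W := rfl

theorem mul_fn' (f g : Fam F) (V : Type u) [AddCommGroup V] [Module F V] [Fintype (Submodule F V)]
    (T : V →ₗ[F] V) : (f * g).fn V T = ∑ W : Submodule F V, f.term g V T W := by
  rw [mul_fn, finsum_eq_sum_of_fintype]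

open Classical in
noncomputable instance : One (Fam F) := ⟨⟨fun V _ _ _ => if Subsingleton V then 1 else 0,
  fun e _ _ _ => by
    have := e.toEquiv.subsingleton_congr
    simp only [this], fun {V} _ _ _ hV => by
    rw [if_neg]
    intro h
    exact hV inferInstance⟩⟩

end Fam

end Cfsg.Agent.H614.GLn
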