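import Cfsg.Agent.H614.GLn.LabHom
import Cfsg.Agent.H112.GLB.Gb3
import Cfsg.Agent.H421.GLn.Newt
import Cfsg.Agent.H941.GLn.Complete
import Cfsg.Agent.OddOrderCharacters.VChar

/-!
# Labels of the irreducible characters of `GL_n(F)` (GB1)
-/

set_option autoImplicit false

open scoped ComplexConjugate

namespace Cfsg.Agent.H614.GLn.RSt

open MvPolynomial Cfsg Cfsg.Agent Cfsg.Agent.H614 Cfsg.Agent.H577.GLB.Std Cfsg.Agent.H614.GLn Cfsg.Agent.H941.GLn
open Cfsg.Agent.H577.GLB.Real
open Cfsg.Agent.H421.GLn (newt newt_unique newt_congr)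

universe u w

section sym

variable {A : Type*} [CommRing A] [Algebra ℂ A] {A' : Type*} [CommRing A'] [Algebra ℂ A'] {m : ℕ}

theorem jt_mem {P : ℕ → A} {S : Subring A} {k : ℕ} (h : ∀ j ≤ k, hh P j ∈ S) {a b : ℕ} (hab : a ≤ b + k) :
    jt P a b ∈ S := by
  unfold jt
  split_ifs with h1
  · exact h _ (by omega)
  · exact S.zero_mem

/-- the determinantal expression is an integral polynomial in the `hh P j`, `j ≤ k` -/
theorem JT_mem {P : ℕ → A} {S : Subring A} {k : ℕ} (h : ∀ j ≤ k, hh P j ∈ S) {β : Fin m → ℕ}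
    (hβ : ∑ i, β i = k + ∑ i : Fin m, (i : ℕ)) : JT P β ∈ S := by
  unfold JT
  refine S.sum_mem fun σ _ => ?_
  have h1 : ∏ i, jt P (β i) (σ i : ℕ) ∈ S := by
    by_cases hle : ∀ i, (σ i : ℕ) ≤ β i
    · refine S.prod_mem fun i _ => jt_mem h ?_
      have h2 : ∑ i : Fin m, ((σ i : Fin m) : ℕ) = ∑ i : Fin m, (i : ℕ) :=
        Equiv.sum_comp σ fun i : Fin m => (i : ℕ)
      have h3 : ∑ i : Fin m, (β i - (σ i : ℕ)) = k := by
        have h4 : ∑ i : Fin m, (β i - (σ i : ℕ)) + ∑ i : Fin m, ((σ i : Fin m) : ℕ) = ∑ i, β i := by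
          rw [← Finset.sum_add_distrib]
          exact Finset.sum_congr rfl fun i _ => Nat.sub_add_cancel (hle i)
        omega
      have h5 := Finset.single_le_sum (f := fun i : Fin m => β i - (σ i : ℕ)) (fun _ _ => Nat.zero_le _)
        (Finset.mem_univ i)
      have h6 : β i - (σ i : ℕ) ≤ k := by
        rw [← h3]; exact h5
      omega
    · push Not at hle
      obtain ⟨i, hi⟩ := hle
      rw [Finset.prod_eq_zero (Finset.mem_univ i)]
      · exact S.zero_mem
      · unfold jt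
        rw [if_neg (by omega)]
  exact zsmul_mem h1 _

theorem map_hh (φ : A →ₐ[ℂ] A') (P : ℕ → A) (k : ℕ) : φ (hh P k) = hh (fun j => φ (P j)) k := by
  unfold hh
  rw [show φ (ZV k fun s => (s.map P).prod) = φ.toLinearMap (ZV k fun s => (s.map P).prod) from rfl, ZV_map]
  refine ZV_congr fun s _ _ => ?_
  show φ ((s.map P).prod) = _
  rw [map_multiset_prod, Multiset.map_map]
  rfl

theorem hh_eq_newt (P : ℕ → A) (k : ℕ) : hh P k = newt P k := by
  refine newt_unique (N := k) (hh_zero P) (fun n _ => ?_) k le_rfl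
  have h := hh_rec P n
  rw [Algebra.smul_def, map_natCast] at h
  rw [h]
  refine (Finset.sum_nbij' (fun i => i + 1) (fun r => r - 1) ?_ ?_ ?_ ?_ ?_).symm
  · intro i hi
    rw [Finset.mem_range] at hi
    rw [Finset.mem_Icc]; omega
  · intro r hr
    rw [Finset.mem_Icc] at hr
    rw [Finset.mem_range]; omega
  · intro i _; omega
  · intro r hr
    rw [Finset.mem_Icc] at hr
    omega
  · intro i hi
    rw [Finset.mem_range] at hi
    rw [show n - 1 - i = n - (i + 1) by omega]

end sym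

section irr

variable {F : Type u} [Field F] {K : Type w} [Field K] [Algebra F K] {θ : K →*₀ ℂ} {N M : ℕ} [NeZero M] {m : ℕ}

/-- the ring of the virtual characters -/
def vcRing (F : Type u) [Field F] : Subring (Fam F) where
  carrier := {f | IsVC f}
  mul_mem' := isVC_mul
  one_mem' := isVC_one
  add_mem' := isVC_add
  zero_mem' := isVC_zero
  neg_mem' := isVC_neg

theorem mem_vcRing {f : Fam F} : f ∈ vcRing F ↔ IsVC f := Iff.rfl

/-- the complete symmetric functions of a label -/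
theorem piA_hh (ctx : Ctx F θ N M) {c : ZMod M} {j : ℕ} (hj : j * perZ (Nat.card F) M c ≤ N) :
    piA (F := F) θ M (hh (fun i => Pw (Nat.card F) M i c) j) =
      newt (fun i => Rc (F := F) θ M (i * perZ (Nat.card F) M c) c) j := by
  have hQ := H112.GLB.isUnit_card ctx
  have hp := perZ_pos (Q := (Nat.card F : ℤ)) hQ c
  rw [map_hh, hh_eq_newt]
  refine newt_congr (N := j) (fun i hi hij => ?_) j le_rfl
  refine H623.GLn.piA_rv ctx (Nat.mul_pos hi hp) ((Nat.mul_le_mul_right _ hij).trans hj) ?_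
  exact (torZ_iff _ _).2 (dvd_mul_left _ _)

/-- the standing hypothesis (integrality of the complete symmetric functions) -/
def HInt (F : Type u) [Field F] {K : Type w} [Field K] [Algebra F K] (θ : K →*₀ ℂ) (N M : ℕ) : Prop :=
  ∀ (c : ZMod M) (j : ℕ), j * perZ (Nat.card F) M c ≤ N →
    IsVC (newt (fun i => Rc (F := F) θ M (i * perZ (Nat.card F) M c) c) j)

theorem isVC_SS (ctx : Ctx F θ N M) (hH : HInt F θ N M) {c : ZMod M} {k : ℕ}
    (hk : k * perZ (Nat.card F) M c ≤ N) {β : Fin m → ℕ} (hβ : ∑ i, β i = k + ∑ i : Fin m, (i : ℕ)) :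
    IsVC (piA (F := F) θ M (SS (fun i => Pw (Nat.card F) M i c) k β)) := by
  rw [SS_eq_JT _ k hβ]
  have h1 : piA (F := F) θ M (JT (fun i => Pw (Nat.card F) M i c) β) ∈ vcRing F := by
    have h2 : JT (fun i => Pw (Nat.card F) M i c) β ∈ (vcRing F).comap (piA (F := F) θ M).toRingHom := by
      refine JT_mem (k := k) (fun j hj => ?_) hβ
      show piA (F := F) θ M (hh (fun i => Pw (Nat.card F) M i c) j) ∈ vcRing F
      have hj' : j * perZ (Nat.card F) M c ≤ N := (Nat.mul_le_mul_right _ hj).trans hk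
      rw [piA_hh ctx hj']
      exact hH c j hj'
    exact h2
  exact h1

theorem isVC_SchP (ctx : Ctx F θ N M) (hH : HInt F θ N M) {n : ℕ} (hn : n ≤ N) (t : LabZ (Nat.card F) M m n) :
    IsVC (piA (F := F) θ M (SchP (Nat.card F) M t.t)) := by
  have hQ := H112.GLB.isUnit_card ctx
  rw [SchP_eq]
  unfold prodS
  rw [map_prod]
  refine isVC_prod fun c hc => isVC_SS ctx hH ?_ (sum_eq_bsz (t.mono c))
  have h1 := nuP_deg hQ t.t t.orb
  rw [t.sum] at h1
  have h2 := Finset.single_le_sum (f := fun c => perZ (Nat.card F : ℤ) M c * H577.GLB.Std.bsz (t.t c))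
    (fun _ _ => Nat.zero_le _) hc
  have h3 : perZ (Nat.card F : ℤ) M c * H577.GLB.Std.bsz (t.t c) ≤ N := h2.trans (h1.le.trans hn)
  rw [mul_comm] at h3
  exact h3

/-- the labelled class functions are generalized characters -/
theorem gen_Om (ctx : Ctx F θ N M) (hH : HInt F θ N M) {n : ℕ} (hn : n ≤ N) (t : LabZ (Nat.card F) M m n) :
    IsGeneralizedCharacter (GL (Fin n) F) (Om (F := F) θ M n (SchP (Nat.card F) M t.t)) := by
  have := ctx.finF
  have h := isVC_SchP ctx hH hn t (Fin n → F)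
  exact OddOrderCharacters.VChar.gen_comp (Units.map (Matrix.toLinAlgEquiv' (R := F) (n := Fin n)).toMulEquiv.toMonoidHom) h

/-- the labelled class functions are irreducible characters up to sign -/
theorem exists_irr_Om (ctx : Ctx F θ N M) (hH : HInt F θ N M) {n : ℕ} (hn : n ≤ N) (t : LabZ (Nat.card F) M m n) :
    ∃ χ : IrrCharacter (GL (Fin n) F), IsLab θ M m n χ t := by
  have := ctx.finF
  have : Fintype (GL (Fin n) F) := Fintype.ofFinite _
  have hQ := H112.GLB.isUnit_card ctx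
  have h1 := gen_Om ctx hH hn t
  have h2 := H112.GLB.classInner_Om ctx hn (SchP_mem_Hom hQ t) (SchP_mem_Hom hQ t)
  rw [form_SchP hQ t t, if_pos rfl] at h2
  rcases Characters.Core.isIrr_of_generalized h1 h2 with h | h
  · exact ⟨⟨_, h⟩, 1, by simp⟩
  · exact ⟨⟨_, h⟩, -1, by simp⟩

/-- GB1: labels of irreducible characters -/
theorem isLab_bij_of (ctx : Ctx F θ N M) (hH : HInt F θ N M) {m n : ℕ} (hn : n ≤ N) (hm : n ≤ m) :
    (∀ χ : IrrCharacter (GL (Fin n) F), ∃! t : LabZ (Nat.card F) M m n, IsLab θ M m n χ t) ∧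
    (∀ t : LabZ (Nat.card F) M m n, ∃! χ : IrrCharacter (GL (Fin n) F), IsLab θ M m n χ t) := by
  have := ctx.finF
  have : Fintype (GL (Fin n) F) := Fintype.ofFinite _
  have hQ := H112.GLB.isUnit_card ctx
  have hinner : ∀ {χ χ' : IrrCharacter (GL (Fin n) F)} {t t' : LabZ (Nat.card F) M m n},
      IsLab θ M m n χ t → IsLab θ M m n χ' t' →
      ((if t.t = t'.t then 1 else 0 : ℂ) ≠ 0 ↔ classInner (χ : GL (Fin n) F → ℂ) (χ' : GL (Fin n) F → ℂ) ≠ 0) := by
    rintro χ χ' t t' ⟨s, hs⟩ ⟨s', hs'⟩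
    have h2 := H112.GLB.classInner_Om ctx hn (SchP_mem_Hom hQ t) (SchP_mem_Hom hQ t')
    rw [form_SchP hQ t t', hs, hs', Characters.Core.classInner_smul_left, Characters.Core.classInner_smul_right] at h2
    rw [← h2]
    have h3 : (((s : ℤ) : ℂ)) ≠ 0 := by exact_mod_cast s.ne_zero
    have h4 : conj (((s' : ℤ) : ℂ)) ≠ 0 := by
      rw [map_intCast]; exact_mod_cast s'.ne_zero
    constructor
    · intro h h5
      exact h (by rw [h5]; simp)
    · intro h
      exact mul_ne_zero h3 (mul_ne_zero h4 h)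
  have huniq : ∀ {χ : IrrCharacter (GL (Fin n) F)} {t t' : LabZ (Nat.card F) M m n},
      IsLab θ M m n χ t → IsLab θ M m n χ t' → t = t' := by
    intro χ t t' h h'
    by_contra hne
    have h1 := (hinner h h').2 (by rw [Characters.Core.classInner_irr_self χ.2]; exact one_ne_zero)
    rw [if_neg (fun h2 => hne (LabZ.ext h2))] at h1
    exact h1 rfl
  refine ⟨fun χ => ?_, fun t => ?_⟩
  · obtain ⟨t, s, hs⟩ := exists_Om_eq ctx hn (Hom_le_span hQ hm) (fun t => by
      obtain ⟨χ, s, hs⟩ := exists_irr_Om ctx hH hn t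
      exact ⟨s, χ, hs⟩) χ
    exact ⟨t, ⟨s, hs⟩, fun t' ht' => huniq ht' ⟨s, hs⟩⟩
  · obtain ⟨χ, hχ⟩ := exists_irr_Om ctx hH hn t
    refine ⟨χ, hχ, fun χ' hχ' => ?_⟩
    by_contra hne
    have h1 := (hinner hχ' hχ).1 (by rw [if_pos rfl]; exact one_ne_zero)
    exact h1 (Characters.Core.classInner_irr_ne χ'.2 χ.2 fun h => hne (Subtype.ext h))

end irr

end Cfsg.Agent.H614.GLn.RSt
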