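import Cfsg.Agent.H614.GLn.RSForm

/-!
# Orthonormality of the products of Schur functions in the standard model
-/

set_option autoImplicit false

open scoped ComplexConjugate

namespace Cfsg.Agent.H614.GLn.RSt

open MvPolynomial Cfsg.Agent.H614 Cfsg.Agent.H577.GLB.Std Cfsg.Agent.H614.GLn

variable {Q : ℤ} {M : ℕ} [NeZero M] {m : ℕ}

/-- the product of the Schur functions of sizes `k c` of the tuples `β c`, `c ∈ R` -/
noncomputable def prodS (Q : ℤ) (M : ℕ) (R : Finset (ZMod M)) (k : ZMod M → ℕ) (β : ZMod M → Fin m → ℕ) : RS M :=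
  ∏ c ∈ R, SS (fun j => Pw Q M j c) (k c) (β c)

theorem DP_SS (hQ : IsUnit (Q : ZMod M)) {c c' : ZMod M} (hc : c ∈ repsZ Q M) (hc' : c' ∈ repsZ Q M) {r : ℕ}
    (hr : 0 < r) (k : ℕ) (β : Fin m → ℕ) :
    DP Q M r c (SS (fun j => Pw Q M j c') k β) =
      if c' = c ∧ r ≤ k then ∑ j, (if r ≤ β j then SS (fun j => Pw Q M j c') (k - r) (dn β j r) else 0) else 0 := by
  by_cases hcc : c' = c
  · subst hcc
    have hD : ∀ s, 0 < s → DP Q M r c' (Pw Q M s c') = if s = r then (r : RS M) else 0 := by
      intro s hs
      rw [DP_Pw hQ hc hc' s hs]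
      simp
    by_cases hrk : r ≤ k
    · rw [if_pos ⟨rfl, hrk⟩]
      exact D_SS (fun j => Pw Q M j c') hr hD hrk β
    · rw [if_neg (fun h => hrk h.2)]
      exact D_SS_lt (fun j => Pw Q M j c') hD (by omega) β
  · rw [if_neg (fun h => hcc h.1)]
    apply D_SS_zero (fun j => Pw Q M j c')
    intro s hs
    rw [DP_Pw hQ hc hc' s hs, if_neg (fun h => hcc h.1)]

theorem D_prod_ne {ι A : Type*} [DecidableEq ι] [CommRing A] [Algebra ℂ A] (E : Derivation ℂ A A) (R : Finset ι)
    (f : ι → A) {i₀ : ι} (hi : i₀ ∈ R) (h : ∀ i ∈ R, i ≠ i₀ → E (f i) = 0) :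
    E (∏ i ∈ R, f i) = E (f i₀) * ∏ i ∈ R.erase i₀, f i := by
  rw [← Finset.mul_prod_erase R f hi, Derivation.leibniz]
  have h1 : E (∏ i ∈ R.erase i₀, f i) = 0 := by
    have : ∀ R' : Finset ι, (∀ i ∈ R', E (f i) = 0) → E (∏ i ∈ R', f i) = 0 := by
      intro R'
      induction R' using Finset.induction_on with
      | empty => intro _; simp
      | insert a s ha ih =>
        intro h'
        rw [Finset.prod_insert ha, Derivation.leibniz, ih fun i hi => h' i (Finset.mem_insert_of_mem hi),
          h' a (Finset.mem_insert_self a s)]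
        simp
    exact this _ fun i hi' => h i (Finset.mem_of_mem_erase hi') (Finset.ne_of_mem_erase hi')
  rw [h1, smul_zero, zero_add, smul_eq_mul, mul_comm]

/-- constant coefficients -/
theorem constCoeff_SS (hQ : IsUnit (Q : ZMod M)) {c : ZMod M} (hc : c ∈ repsZ Q M) {k : ℕ} (hk : 0 < k)
    (β : Fin m → ℕ) : constantCoeff (SS (fun j => Pw Q M j c) k β) = 0 := by
  rw [SS]
  have h := ZV_map ((MvPolynomial.constantCoeff (R := ℂ) (σ := Var M)).toAddMonoidHom.toIntLinearMap.toAddMonoidHom |> fun _ =>
    (MvPolynomial.lcoeff ℂ (0 : Var M →₀ ℕ))) k (fun s => (FM s β : ℂ) • (s.map fun j => Pw Q M j c).prod)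
  have h' : constantCoeff (ZV k fun s => (FM s β : ℂ) • (s.map fun j => Pw Q M j c).prod) =
      MvPolynomial.lcoeff ℂ (0 : Var M →₀ ℕ) (ZV k fun s => (FM s β : ℂ) • (s.map fun j => Pw Q M j c).prod) := rfl
  rw [h', h, ZV_congr (g := fun _ => 0), ZV_zero]
  intro s hs hpos
  have h1 : constantCoeff ((s.map fun j => Pw Q M j c).prod) = 0 := by
    have hne : s ≠ 0 := by rintro rfl; simp at hs; omega
    obtain ⟨a, ha⟩ := Multiset.exists_mem_of_ne_zero hne
    obtain ⟨t, rfl⟩ := Multiset.exists_cons_of_mem ha
    rw [Multiset.map_cons, Multiset.prod_cons, map_mul, Pw_eq hQ hc (hpos a ha), constantCoeff_X, zero_mul]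
  rw [map_smul]
  change _ • constantCoeff ((s.map fun j => Pw Q M j c).prod) = 0
  rw [h1, smul_zero]

theorem form_one_left (P : RS M) : form Q M 1 P = conj (constantCoeff P) := by
  rw [show (1 : RS M) = monomial 0 1 from rfl, form_monomial_left, Nf, Finsupp.prod_zero_index]
  simp [constantCoeff]

/-- **Orthonormality.** -/
theorem form_prodS (hQ : IsUnit (Q : ZMod M)) (R : Finset (ZMod M)) (hR : R ⊆ repsZ Q M) (n : ℕ) :
    ∀ (k l : ZMod M → ℕ) (β γ : ZMod M → Fin m → ℕ),
      (∀ c ∈ R, ∑ i, β c i = k c + ∑ i : Fin m, (i : ℕ)) → (∀ c ∈ R, ∑ i, γ c i = l c + ∑ i : Fin m, (i : ℕ)) →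
      ∑ c ∈ R, k c = n →
      form Q M (prodS Q M R k β) (prodS Q M R l γ) = ∏ c ∈ R, (pair (β c) (γ c) : ℂ) := by
  classical
  induction n using Nat.strong_induction_on with
  | _ n ih =>
    intro k l β γ hβ hγ hn
    rcases Nat.eq_zero_or_pos n with h0 | h0
    · rw [h0] at hn
      have hk : ∀ c ∈ R, k c = 0 := fun c hc => by
        have := (Finset.sum_eq_zero_iff.1 hn) c hc; exact this
      have h1 : prodS Q M R k β = (∏ c ∈ R, ((vac (β c) : ℤ) : ℂ)) • (1 : RS M) := by
        have : ∀ c ∈ R, SS (fun j => Pw Q M j c) (k c) (β c) = C ((vac (β c) : ℤ) : ℂ) := by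
          intro c hc
          rw [hk c hc, SS_zero_eq, Algebra.smul_def, mul_one]; rfl
        rw [prodS, Finset.prod_congr rfl this, ← map_prod, Algebra.smul_def, mul_one]; rfl
      rw [h1, form_smul_left, form_one_left]
      by_cases hl : ∀ c ∈ R, l c = 0
      · have h2 : prodS Q M R l γ = C (∏ c ∈ R, ((vac (γ c) : ℤ) : ℂ)) := by
          have : ∀ c ∈ R, SS (fun j => Pw Q M j c) (l c) (γ c) = C ((vac (γ c) : ℤ) : ℂ) := by
            intro c hc
            rw [hl c hc, SS_zero_eq, Algebra.smul_def, mul_one]; rfl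
          rw [prodS, Finset.prod_congr rfl this, ← map_prod]
        rw [h2, constantCoeff_C, map_prod, ← Finset.prod_mul_distrib]
        refine Finset.prod_congr rfl fun c hc => ?_
        rw [map_intCast, ← vac_mul_vac (by rw [hβ c hc, hk c hc, zero_add])]
        push_cast; rfl
      · push Not at hl
        obtain ⟨c, hc, hlc⟩ := hl
        have h2 : constantCoeff (prodS Q M R l γ) = 0 := by
          rw [prodS, map_prod]
          exact Finset.prod_eq_zero hc (constCoeff_SS hQ (hR hc) (Nat.pos_of_ne_zero hlc) _)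
        rw [h2, map_zero, mul_zero]
        symm
        refine Finset.prod_eq_zero hc ?_
        have : pair (β c) (γ c) = 0 := by
          unfold pair
          refine Finset.sum_eq_zero fun σ _ => if_neg ?_
          intro h3
          apply hlc
          have h4 : ∑ i, β c i = ∑ i, γ c i := by
            rw [h3]; exact Equiv.sum_comp σ (γ c)
          rw [hβ c hc, hγ c hc, hk c hc] at h4
          omega
        rw [this]; simp
    · obtain ⟨c₀, hc₀, hk₀⟩ : ∃ c ∈ R, 0 < k c := by
        by_contra hne
        push Not at hne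
        have : ∑ c ∈ R, k c = 0 := Finset.sum_eq_zero fun c hc => Nat.le_zero.1 (hne c hc)
        omega
      set P₀ : ℕ → RS M := fun j => Pw Q M j c₀ with hP₀
      have hsplit : ∀ (k : ZMod M → ℕ) (β : ZMod M → Fin m → ℕ), prodS Q M R k β =
          SS P₀ (k c₀) (β c₀) * ∏ c ∈ R.erase c₀, SS (fun j => Pw Q M j c) (k c) (β c) := by
        intro k β
        rw [prodS, ← Finset.mul_prod_erase R _ hc₀]
      have hupd : ∀ (k : ZMod M → ℕ) (β : ZMod M → Fin m → ℕ) (a : ℕ) (δ : Fin m → ℕ),
          prodS Q M R (Function.update k c₀ a) (Function.update β c₀ δ) =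
            SS P₀ a δ * ∏ c ∈ R.erase c₀, SS (fun j => Pw Q M j c) (k c) (β c) := by
        intro k β a δ
        rw [hsplit, Function.update_self, Function.update_self]
        congr 1
        refine Finset.prod_congr rfl fun c hc => ?_
        rw [Function.update_of_ne (Finset.ne_of_mem_erase hc), Function.update_of_ne (Finset.ne_of_mem_erase hc)]
      have hstep : ∀ r, 1 ≤ r → r ≤ k c₀ → ∀ j : Fin m, r ≤ β c₀ j →
          form Q M (P₀ r * prodS Q M R (Function.update k c₀ (k c₀ - r)) (Function.update β c₀ (dn (β c₀) j r)))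
            (prodS Q M R l γ) =
          (∏ c ∈ R.erase c₀, (pair (β c) (γ c) : ℂ)) *
            ∑ i, (if r ≤ γ c₀ i then (pair (dn (β c₀) j r) (dn (γ c₀) i r) : ℂ) else 0) := by
        intro r hr1 hrk j hj
        rw [hP₀, form_Pw_mul hQ (hR hc₀) hr1, hsplit l γ,
          show SS P₀ (l c₀) (γ c₀) * ∏ c ∈ R.erase c₀, SS (fun j => Pw Q M j c) (l c) (γ c) =
            ∏ c ∈ R, SS (fun j => Pw Q M j c) (l c) (γ c) from Finset.mul_prod_erase R _ hc₀,
          D_prod_ne _ R _ hc₀ (fun c hc hne => by
            rw [DP_SS hQ (hR hc₀) (hR hc) hr1, if_neg (fun h => hne h.1)]),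
          DP_SS hQ (hR hc₀) (hR hc₀) hr1]
        by_cases hrl : r ≤ l c₀
        · rw [if_pos ⟨rfl, hrl⟩, Finset.sum_mul, form_sum_right, Finset.mul_sum]
          refine Finset.sum_congr rfl fun i _ => ?_
          by_cases hi : r ≤ γ c₀ i
          · rw [if_pos hi, if_pos hi, ← hupd l γ (l c₀ - r) (dn (γ c₀) i r)]
            rw [ih (n - r) (by omega) (Function.update k c₀ (k c₀ - r)) (Function.update l c₀ (l c₀ - r))
              (Function.update β c₀ (dn (β c₀) j r)) (Function.update γ c₀ (dn (γ c₀) i r))]
            · rw [← Finset.mul_prod_erase R _ hc₀, Function.update_self, Function.update_self, mul_comm]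
              congr 1
              refine Finset.prod_congr rfl fun c hc => ?_
              rw [Function.update_of_ne (Finset.ne_of_mem_erase hc), Function.update_of_ne (Finset.ne_of_mem_erase hc)]
            · intro c hc
              by_cases hcc : c = c₀
              · subst hcc
                rw [Function.update_self, Function.update_self]
                have h1 := sum_dn (β c) j hj
                have h2 := hβ c hc
                omega
              · rw [Function.update_of_ne hcc, Function.update_of_ne hcc]; exact hβ c hc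
            · intro c hc
              by_cases hcc : c = c₀
              · subst hcc
                rw [Function.update_self, Function.update_self]
                have h1 := sum_dn (γ c) i hi
                have h2 := hγ c hc
                omega
              · rw [Function.update_of_ne hcc, Function.update_of_ne hcc]; exact hγ c hc
            · rw [← Finset.add_sum_erase R _ hc₀] at hn ⊢
              rw [Function.update_self]
              have h1 : ∑ x ∈ R.erase c₀, Function.update k c₀ (k c₀ - r) x = ∑ x ∈ R.erase c₀, k x :=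
                Finset.sum_congr rfl fun c hc => by rw [Function.update_of_ne (Finset.ne_of_mem_erase hc)]
              rw [h1]
              omega
          · rw [if_neg hi, if_neg hi, zero_mul, form_zero_right, mul_zero]
        · rw [if_neg (fun h => hrl h.2), zero_mul, form_zero_right]
          symm
          rw [Finset.sum_eq_zero, mul_zero]
          intro i _
          split_ifs with hi
          · have h1 : pair (dn (β c₀) j r) (dn (γ c₀) i r) = 0 := by
              rw [pair_comm]
              apply pair_eq_zero_of_sum_lt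
              have h2 := sum_dn (γ c₀) i hi
              have h3 := hγ c₀ hc₀
              omega
            rw [h1]; simp
          · rfl
      have hk' : ((k c₀ : ℕ) : ℂ) ≠ 0 := by exact_mod_cast hk₀.ne'
      apply mul_left_cancel₀ hk'
      rw [← form_smul_left, hsplit k β, ← smul_mul_assoc, SS_rec, Finset.sum_mul, form_sum_left]
      have hE := pair_energy (k c₀) (hβ c₀ hc₀) (γ c₀)
      rw [← Finset.mul_prod_erase R _ hc₀, ← mul_assoc, ← Int.cast_natCast (k c₀), ← Int.cast_mul, ← hE]
      push_cast
      rw [mul_comm, Finset.mul_sum]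
      refine Finset.sum_congr rfl fun r hr => ?_
      rw [Finset.mem_Icc] at hr
      rw [mul_assoc, Finset.sum_mul, Finset.mul_sum, form_sum_left, Finset.mul_sum]
      refine Finset.sum_congr rfl fun j _ => ?_
      by_cases hj : r ≤ β c₀ j
      · rw [if_pos hj, ← hupd k β (k c₀ - r) (dn (β c₀) j r), hstep r hr.1 hr.2 j hj]
        simp only [hj, if_true]
      · rw [if_neg hj, zero_mul, mul_zero, form_zero_left]
        simp [hj]

end Cfsg.Agent.H614.GLn.RSt
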